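import Mathlib.GroupTheory.SpecificGroups.ZGroup
import Mathlib.GroupTheory.Perm.Cycle.Type
import Mathlib.GroupTheory.GroupAction.MultipleTransitivity
import Cfsg.Agent.Lib.ZStar.Main
import Cfsg.Agent.Lib.OddOrder.Solvable

/-!
Generic lemmas for factorisations by a cyclic group and a Z-group.
-/

namespace CfsgLib.CycZ

set_option linter.unusedSectionVars false
set_option linter.unusedVariables false
set_option linter.style.haveILetI false

open MulAction

/-- The 2-part of a natural number. -/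
def twoPart (n : ℕ) : ℕ := 2 ^ n.factorization 2

theorem twoPart_pos (n : ℕ) : 0 < twoPart n := Nat.two_pow_pos _

theorem twoPart_mul {a b : ℕ} (ha : a ≠ 0) (hb : b ≠ 0) :
    twoPart (a * b) = twoPart a * twoPart b := Nat.ordProj_mul 2 ha hb

theorem twoPart_dvd (n : ℕ) : twoPart n ∣ n := Nat.ordProj_dvd n 2

theorem twoPart_mono {a b : ℕ} (hb : b ≠ 0) (h : a ∣ b) : twoPart a ∣ twoPart b :=
  Nat.ordProj_dvd_ordProj_of_dvd hb h 2

theorem twoPart_pow (k : ℕ) : twoPart (2 ^ k) = 2 ^ k := by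
  simp [twoPart, Nat.prime_two.factorization_pow]

theorem twoPart_twoPart (n : ℕ) : twoPart (twoPart n) = twoPart n := twoPart_pow _

theorem twoPart_of_odd {n : ℕ} (h : Odd n) : twoPart n = 1 := by
  rw [twoPart, Nat.factorization_eq_zero_of_not_dvd (by rw [← even_iff_two_dvd]; exact Nat.not_even_iff_odd.2 h), pow_zero]

theorem two_dvd_twoPart {n : ℕ} (hn : n ≠ 0) (h : 2 ∣ n) : 2 ∣ twoPart n :=
  dvd_pow_self 2 (Nat.prime_two.factorization_pos_of_dvd hn h).ne'

variable {G : Type*} [Group G] [Finite G]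

theorem card_dvd_twoPart {P H : Subgroup G} (hP : IsPGroup 2 P) (hle : P ≤ H) :
    Nat.card P ∣ twoPart (Nat.card H) := by
  obtain ⟨k, hk⟩ := IsPGroup.iff_card.1 hP
  have h := twoPart_mono (Nat.card_pos (α := H)).ne' (Subgroup.card_dvd_of_le hle)
  rwa [hk, twoPart_pow, ← hk] at h

theorem card_sylow (P : Sylow 2 G) : Nat.card (P : Subgroup G) = twoPart (Nat.card G) :=
  haveI := Fact.mk Nat.prime_two
  P.card_eq_multiplicity

/-- A full 2-subgroup of `H` containing a given one. -/
theorem exists_two_subgroup {H Q : Subgroup G} (hQ : IsPGroup 2 Q) (hle : Q ≤ H) :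
    ∃ P : Subgroup G, Q ≤ P ∧ P ≤ H ∧ IsPGroup 2 P ∧ Nat.card P = twoPart (Nat.card H) := by
  haveI := Fact.mk Nat.prime_two
  obtain ⟨S, hS⟩ := (hQ.of_equiv (Subgroup.subgroupOfEquivOfLe hle).symm).exists_le_sylow
  refine ⟨(S : Subgroup H).map H.subtype, fun x hx => ⟨⟨x, hle hx⟩, hS hx, rfl⟩,
    Subgroup.map_subtype_le _, S.2.map _, ?_⟩
  rw [Subgroup.card_map_of_injective H.subtype_injective]
  exact card_sylow S

theorem exists_conj_into {H Q P : Subgroup G} (hQ : IsPGroup 2 Q) (hQH : Q ≤ H) (hP : IsPGroup 2 P)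
    (hPH : P ≤ H) (hPc : Nat.card P = twoPart (Nat.card H)) :
    ∃ c ∈ H, ∀ q ∈ Q, c * q * c⁻¹ ∈ P := by
  haveI := Fact.mk Nat.prime_two
  obtain ⟨S, hS⟩ := (hQ.of_equiv (Subgroup.subgroupOfEquivOfLe hQH).symm).exists_le_sylow
  let T : Sylow 2 H := Sylow.ofCard (P.subgroupOf H) (by
    rw [Nat.card_congr (Subgroup.subgroupOfEquivOfLe hPH).toEquiv, hPc]; rfl)
  obtain ⟨c, hc⟩ := MulAction.exists_smul_eq H S T
  refine ⟨c, c.2, fun q hq => ?_⟩
  have h1 : (c * ⟨q, hQH hq⟩ * c⁻¹ : H) ∈ ((c • S : Sylow 2 H) : Subgroup H) := by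
    rw [Sylow.coe_subgroup_smul, Subgroup.mem_pointwise_smul_iff_inv_smul_mem]
    have h2 := hS (show (⟨q, hQH hq⟩ : H) ∈ Q.subgroupOf H from hq)
    convert h2 using 1
    simp [MulAut.smul_def, mul_assoc]
  rw [hc] at h1
  exact h1

theorem pGroup_zpowers {g : G} {k : ℕ} (h : g ^ 2 ^ k = 1) : IsPGroup 2 (Subgroup.zpowers g) := by
  intro x
  obtain ⟨i, hi⟩ := x.2
  refine ⟨k, Subtype.ext ?_⟩
  rw [SubmonoidClass.coe_pow, ← hi, ← zpow_natCast, ← zpow_mul, mul_comm, zpow_mul, zpow_natCast, h, one_zpow]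
  rfl

/-- In a Z-group two commuting involutions are equal. -/
theorem invol_eq {B : Type*} [Group B] [Finite B] [IsZGroup B] {s t : B} (hs : orderOf s = 2)
    (ht : orderOf t = 2) (hst : Commute s t) : s = t := by
  classical
  let V := Subgroup.closure ({s, t} : Set B)
  haveI : IsMulCommutative V := Subgroup.isMulCommutative_closure (by
    rintro x (rfl | rfl) y (rfl | rfl) <;> first | rfl | exact hst.eq | exact hst.eq.symm)
  haveI : IsCyclic V := by
    letI : CommGroup V := { (inferInstance : Group V) with mul_comm := fun a b => mul_comm' a b }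
    infer_instance
  haveI := Fintype.ofFinite V
  by_contra hne
  have h := IsCyclic.card_pow_eq_one_le (α := V) (n := 2) two_pos
  let s' : V := ⟨s, Subgroup.subset_closure (Or.inl rfl)⟩
  let t' : V := ⟨t, Subgroup.subset_closure (Or.inr rfl)⟩
  have h3 : ({1, s', t'} : Finset V) ⊆ Finset.univ.filter (fun a => a ^ 2 = 1) := by
    intro x hx
    simp only [Finset.mem_insert, Finset.mem_singleton] at hx
    simp only [Finset.mem_filter, Finset.mem_univ, true_and]
    rcases hx with rfl | rfl | rfl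
    · exact one_pow 2
    · exact Subtype.ext (by simp only [SubmonoidClass.coe_pow, OneMemClass.coe_one, s']; rw [← hs, pow_orderOf_eq_one])
    · exact Subtype.ext (by simp only [SubmonoidClass.coe_pow, OneMemClass.coe_one, t']; rw [← ht, pow_orderOf_eq_one])
  have hcard : ({1, s', t'} : Finset V).card = 3 := by
    have h1 : (1 : V) ≠ s' := fun h => by
      have := congrArg Subtype.val h
      simp [s'] at this
      simp [← this] at hs
    have h2 : (1 : V) ≠ t' := fun h => by
      have := congrArg Subtype.val h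
      simp [t'] at this
      simp [← this] at ht
    have h4 : s' ≠ t' := fun h => hne (congrArg Subtype.val h)
    simp [h1, h2, h4]
  have := Finset.card_le_card h3
  omega

theorem invol_eq_subgroup {B : Subgroup G} [IsZGroup B] {s t : G} (hsB : s ∈ B) (htB : t ∈ B)
    (hs : orderOf s = 2) (ht : orderOf t = 2) (hst : Commute s t) : s = t :=
  congrArg Subtype.val (invol_eq (s := (⟨s, hsB⟩ : B)) (t := ⟨t, htB⟩)
    (by rw [Subgroup.orderOf_mk]; exact hs) (by rw [Subgroup.orderOf_mk]; exact ht) (Subtype.ext hst.eq))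

/-- Every subgroup of a normal cyclic subgroup is normal. -/
theorem conj_mem_zpowers {B : Type*} [Group B] (K : Subgroup B) [K.Normal] (hK : IsCyclic K)
    {x : B} (hx : x ∈ K) (h : B) : h * x * h⁻¹ ∈ Subgroup.zpowers x := by
  obtain ⟨k, hk⟩ := hK.exists_generator
  obtain ⟨i, hi⟩ := Subgroup.mem_zpowers_iff.1 (hk ⟨x, hx⟩)
  obtain ⟨m, hm⟩ := Subgroup.mem_zpowers_iff.1 (hk ⟨h * (k : B) * h⁻¹, Subgroup.Normal.conj_mem inferInstance _ k.2 h⟩)
  refine Subgroup.mem_zpowers_iff.2 ⟨m, ?_⟩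
  have hi' : (k : B) ^ i = x := by simpa using congrArg Subtype.val hi
  have hm' : (k : B) ^ m = h * (k : B) * h⁻¹ := by simpa using congrArg Subtype.val hm
  rw [← hi', ← conj_zpow, ← hm', ← zpow_mul, ← zpow_mul, mul_comm]

/-- An odd-order element inverted by an involution: the two involutions are conjugate. -/
theorem exists_half {k : G} (hk : Odd (orderOf k)) : ∃ j : ℕ, k ^ (2 * j) = k := by
  obtain ⟨m, hm⟩ := hk
  refine ⟨m + 1, ?_⟩
  rw [show 2 * (m + 1) = orderOf k + 1 by omega, pow_succ, pow_orderOf_eq_one, one_mul]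

theorem solvable_of_cyclic_sylow_two (P : Sylow 2 G) (hP : IsCyclic (P : Subgroup G)) :
    Group.IsSolvable G := by
  haveI := Fact.mk Nat.prime_two
  obtain ⟨Q, N, hN, hc⟩ := ZStar.hasNormalPComplement_of_cyclic P hP
  have hodd : Odd (Nat.card N) := by
    have h2 : ¬ 2 ∣ (Q : Subgroup G).index := Q.not_dvd_index
    rw [hc.index_eq_card] at h2
    rwa [Nat.odd_iff, ← Nat.two_dvd_ne_zero]
  haveI := OddOrder.odd_order_solvable hodd
  haveI : Group.IsSolvable (G ⧸ N) := by
    have hcard : Nat.card (G ⧸ N) = Nat.card (Q : Subgroup G) := by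
      rw [← Subgroup.index_eq_card]
      exact hc.symm.index_eq_card
    obtain ⟨k, hk⟩ := IsPGroup.iff_card.1 Q.2
    haveI := (IsPGroup.of_card (hcard.trans hk)).isNilpotent
    infer_instance
  exact solvable_of_ker_le_range N.subtype (QuotientGroup.mk' N) (by simp)

variable {α : Type*} [Fintype α] [DecidableEq α]

/-- Sign of a permutation semiregular on its support. -/
theorem sign_semiregular (σ : Equiv.Perm α) {n : ℕ} (hn : orderOf σ = n) (heven : Even n)
    (hsemi : ∀ (i : ℕ) (x : α), σ x ≠ x → (σ ^ i) x = x → σ ^ i = 1) :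
    Equiv.Perm.sign σ = (-1 : ℤˣ) ^ (σ.support.card / n) := by
  have hall : σ.cycleType = Multiset.replicate (Multiset.card σ.cycleType) n := by
    refine Multiset.eq_replicate.2 ⟨rfl, fun m hm => ?_⟩
    obtain ⟨c, τ, hστ, hd, hc, hcm⟩ := Equiv.Perm.mem_cycleType_iff.1 hm
    have hdvd := Equiv.Perm.dvd_of_mem_cycleType hm
    obtain ⟨x, hx⟩ := Finset.card_pos.1 (show 0 < c.support.card by
      rw [hcm]; exact (Equiv.Perm.one_lt_of_mem_cycleType hm).le.trans' (by omega))
    have hτx : τ x = x := (hd x).resolve_left (Equiv.Perm.mem_support.1 hx)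
    have hσx : σ x ≠ x := by
      rw [hστ, Equiv.Perm.mul_apply, hτx]
      exact Equiv.Perm.mem_support.1 hx
    have hcm1 : c ^ m = 1 := by rw [← hcm, ← hc.orderOf, pow_orderOf_eq_one]
    have hfix : (σ ^ m) x = x := by
      rw [hστ, hd.commute.mul_pow, hcm1, one_mul]
      exact (Equiv.Perm.pow_apply_eq_self_of_apply_eq_self hτx m)
    have := orderOf_dvd_of_pow_eq_one (hsemi m x hσx hfix)
    rw [hn] at this hdvd
    exact Nat.dvd_antisymm hdvd this
  have hpos : 0 < n := hn ▸ orderOf_pos σ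
  rw [Equiv.Perm.sign_of_cycleType_eq_replicate hpos hall, if_neg (Nat.not_odd_iff_even.2 heven),
    Equiv.Perm.card_fixedPoints, Nat.sub_sub_self (Equiv.Perm.sum_cycleType_le σ), Equiv.Perm.sum_cycleType]

end CfsgLib.CycZ
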