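import Cfsg.Agent.Lib.CycZFactor.Basic

/-!
Doubly transitive groups of even degree with Z-group point stabilisers and
2-subgroups factorised by a semiregular element.
-/

namespace CfsgLib.CycZ

set_option linter.unusedSectionVars false
set_option linter.unusedVariables false
set_option linter.style.haveILetI false

open Equiv

variable {Ω : Type*} [Finite Ω]

/-- Point stabiliser inside a permutation group. -/
def st (H : Subgroup (Perm Ω)) (x : Ω) : Subgroup (Perm Ω) :=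
  H ⊓ MulAction.stabilizer (Perm Ω) x

theorem mem_st {H : Subgroup (Perm Ω)} {x : Ω} {g : Perm Ω} : g ∈ st H x ↔ g ∈ H ∧ g x = x := by
  simp [st, MulAction.mem_stabilizer_iff]

theorem st_le (H : Subgroup (Perm Ω)) (x : Ω) : st H x ≤ H := inf_le_left

theorem st_mono {H K : Subgroup (Perm Ω)} (h : H ≤ K) (x : Ω) : st H x ≤ st K x :=
  inf_le_inf_right _ h

/-- All powers without fixed points, except the trivial ones. -/
def Semireg (g : Perm Ω) : Prop := ∀ (i : ℕ) (y : Ω), (g ^ i) y = y → g ^ i = 1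

theorem Semireg.pow {g : Perm Ω} (h : Semireg g) (k : ℕ) : Semireg (g ^ k) := by
  intro i y hy
  rw [← pow_mul] at hy ⊢
  exact h _ y hy

theorem card_eq_ncard_mul (H : Subgroup (Perm Ω)) (a : Ω) (S : Set Ω)
    (hS : ∀ y, y ∈ S ↔ ∃ g ∈ H, g a = y) : Nat.card H = S.ncard * Nat.card (st H a) := by
  have horb : MulAction.orbit H a = S := by
    ext y
    rw [hS]
    exact ⟨fun ⟨g, hg⟩ => ⟨g, g.2, hg⟩, fun ⟨g, hg, hy⟩ => ⟨⟨g, hg⟩, hy⟩⟩
  have he : Nat.card (MulAction.stabilizer H a) = Nat.card (st H a) := by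
    refine Nat.card_congr
      { toFun := fun g => ⟨g.1.1, mem_st.2 ⟨g.1.2, g.2⟩⟩
        invFun := fun g => ⟨⟨g.1, (mem_st.1 g.2).1⟩, (mem_st.1 g.2).2⟩
        left_inv := fun _ => rfl
        right_inv := fun _ => rfl }
  rw [← horb, ← MulAction.index_stabilizer, ← he]
  exact (Subgroup.index_mul_card _).symm

theorem decomp {P : Subgroup (Perm Ω)} {x : Ω} {g : Perm Ω} (hg : g ∈ P) (hs : Semireg g)
    (hc : Nat.card P = orderOf g * Nat.card (st P x)) {p : Perm Ω} (hp : p ∈ P) :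
    ∃ i < orderOf g, ∃ h ∈ st P x, p = g ^ i * h := by
  let f : Fin (orderOf g) × st P x → P := fun q =>
    ⟨g ^ (q.1 : ℕ) * q.2.1, P.mul_mem (P.pow_mem hg _) (mem_st.1 q.2.2).1⟩
  have hinj : Function.Injective f := by
    rintro ⟨i, h⟩ ⟨j, k⟩ he
    have he' : g ^ (i : ℕ) * h.1 = g ^ (j : ℕ) * k.1 := congrArg Subtype.val he
    have key : ∀ (i j : Fin (orderOf g)) (h k : st P x), (i : ℕ) ≤ j →
        g ^ (i : ℕ) * h.1 = g ^ (j : ℕ) * k.1 → (i : ℕ) = j := by
      intro i j h k hij he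
      have h1 : g ^ ((j : ℕ) - i) * k.1 = h.1 := by
        apply mul_left_cancel (a := g ^ (i : ℕ))
        rw [← mul_assoc, ← pow_add, Nat.add_sub_cancel' hij, he]
      have h2 := congrArg (fun p : Perm Ω => p x) h1
      simp only [Perm.mul_apply, (mem_st.1 h.2).2, (mem_st.1 k.2).2] at h2
      have h3 := Nat.eq_zero_of_dvd_of_lt (orderOf_dvd_of_pow_eq_one (hs _ x h2)) (by omega)
      omega
    have hij : i = j := Fin.ext <| by
      rcases le_total (i : ℕ) j with hle | hle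
      · exact key i j h k hle he'
      · exact (key j i k h hle he'.symm).symm
    subst hij
    exact Prod.ext rfl (Subtype.ext (mul_left_cancel he'))
  have hbij : Function.Bijective f := by
    rw [Nat.bijective_iff_injective_and_card]
    refine ⟨hinj, ?_⟩
    rw [Nat.card_prod, Nat.card_fin, hc]
  obtain ⟨⟨i, h⟩, hq⟩ := hbij.2 ⟨p, hp⟩
  exact ⟨i, i.2, h.1, h.2, (congrArg Subtype.val hq).symm⟩

/-- The inductive hypothesis. -/
structure Hyp (G : Subgroup (Perm Ω)) : Prop where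
  two : ∀ a b c d : Ω, a ≠ b → c ≠ d → ∃ g ∈ G, g a = c ∧ g b = d
  even : Even (Nat.card Ω)
  pos : 0 < Nat.card Ω
  zgroup : ∀ x, IsZGroup (st G x)
  semi : ∀ (x : Ω) (P : Subgroup (Perm Ω)), P ≤ G → IsPGroup 2 P →
    Nat.card (st P x) = twoPart (Nat.card (st G x)) →
    ∃ g ∈ P, Semireg g ∧ Nat.card P = orderOf g * Nat.card (st P x)

/-- The conclusion. -/
structure Good (G : Subgroup (Perm Ω)) : Prop where
  four : 4 ≤ Nat.card Ω
  prime : (Nat.card Ω - 1).Prime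
  cardD : ∀ a b : Ω, a ≠ b → Nat.card (st (st G a) b) = Nat.card Ω - 2
  free : ∀ g ∈ G, ∀ a b c : Ω, a ≠ b → b ≠ c → a ≠ c → g a = a → g b = b → g c = c → g = 1

variable {G : Subgroup (Perm Ω)}

theorem zgroup_of_le {H K : Subgroup (Perm Ω)} (h : H ≤ K) [IsZGroup K] : IsZGroup H :=
  IsZGroup.of_injective (f := Subgroup.inclusion h) (Subgroup.inclusion_injective h)

namespace Hyp

theorem exists_ne (h : Hyp G) (a : Ω) : ∃ b, b ≠ a := by
  haveI : Nontrivial Ω := by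
    rw [← Finite.one_lt_card_iff_nontrivial]
    obtain ⟨k, hk⟩ := h.even
    have := h.pos
    omega
  exact _root_.exists_ne a

theorem trans (h : Hyp G) (a c : Ω) : ∃ g ∈ G, g a = c := by
  obtain ⟨b, hb⟩ := h.exists_ne a
  obtain ⟨d, hd⟩ := h.exists_ne c
  obtain ⟨g, hg, hga, -⟩ := h.two a b c d hb.symm hd.symm
  exact ⟨g, hg, hga⟩

theorem trans_rest (h : Hyp G) {a b c : Ω} (hb : b ≠ a) (hc : c ≠ a) : ∃ g ∈ st G a, g b = c := by
  obtain ⟨g, hg, hga, hgb⟩ := h.two a b a c hb.symm hc.symm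
  exact ⟨g, mem_st.2 ⟨hg, hga⟩, hgb⟩

theorem card_eq (h : Hyp G) (a : Ω) : Nat.card G = Nat.card Ω * Nat.card (st G a) := by
  rw [card_eq_ncard_mul G a Set.univ (fun y => iff_of_true (Set.mem_univ y) (h.trans a y)),
    Set.ncard_univ]

theorem card_st (h : Hyp G) {a b : Ω} (hb : b ≠ a) :
    Nat.card (st G a) = (Nat.card Ω - 1) * Nat.card (st (st G a) b) := by
  rw [card_eq_ncard_mul (st G a) b ({a}ᶜ : Set Ω), Set.ncard_compl, Set.ncard_singleton]
  intro y
  refine ⟨fun hy => h.trans_rest hb hy, ?_⟩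
  rintro ⟨g, hg, rfl⟩ he
  rw [Set.mem_singleton_iff] at he
  exact hb (g.injective (he.trans (mem_st.1 hg).2.symm))

theorem odd_pred (h : Hyp G) : Odd (Nat.card Ω - 1) := by
  obtain ⟨k, hk⟩ := h.even
  have := h.pos
  exact ⟨k - 1, by omega⟩

/-- The derived subgroup of a point stabiliser. -/
def der (G : Subgroup (Perm Ω)) (a : Ω) : Subgroup (Perm Ω) := ⁅st G a, st G a⁆

theorem der_eq (G : Subgroup (Perm Ω)) (a : Ω) :
    der G a = (commutator (st G a)).map (st G a).subtype := by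
  rw [der, Subgroup.map_subtype_commutator]

theorem der_le (G : Subgroup (Perm Ω)) (a : Ω) : der G a ≤ st G a :=
  Subgroup.commutator_le_self _

theorem conj_der (h : Hyp G) {a : Ω} {x g : Perm Ω} (hx : x ∈ der G a) (hg : g ∈ st G a) :
    g * x * g⁻¹ ∈ Subgroup.zpowers x := by
  haveI := h.zgroup a
  have hx' : x ∈ (commutator (st G a)).map (st G a).subtype := der_eq G a ▸ hx
  obtain ⟨y, hy, rfl⟩ := hx'
  obtain ⟨i, hi⟩ := conj_mem_zpowers (commutator (st G a)) (IsZGroup.isCyclic_commutator _) hy ⟨g, hg⟩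
  exact ⟨i, by simpa using congrArg Subtype.val hi⟩

theorem der_semireg (h : Hyp G) {a b : Ω} {x : Perm Ω} (hx : x ∈ der G a) (hb : b ≠ a) (hxb : x b = b) :
    x = 1 := by
  refine Equiv.ext fun y => ?_
  by_cases hy : y = a
  · rw [hy]
    exact (mem_st.1 (der_le G a hx)).2
  obtain ⟨g, hg, hgb⟩ := h.trans_rest hb hy
  obtain ⟨i, hi⟩ := Subgroup.mem_zpowers_iff.1 (h.conj_der hx ((st G a).inv_mem hg))
  have hfix : (x ^ i) b = b := by
    have : x ∈ MulAction.stabilizer (Perm Ω) b := hxb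
    exact (MulAction.stabilizer (Perm Ω) b).zpow_mem this i
  rw [hi, inv_inv, Perm.mul_apply, Perm.mul_apply, hgb] at hfix
  exact (Perm.inv_eq_iff_eq.1 hfix).trans hgb

theorem D_comm (h : Hyp G) {a b : Ω} (hb : b ≠ a) {x y : Perm Ω} (hx : x ∈ st (st G a) b)
    (hy : y ∈ st (st G a) b) : x * y = y * x := by
  rw [mem_st] at hx hy
  have hc : x * y * x⁻¹ * y⁻¹ ∈ der G a := Subgroup.commutator_mem_commutator hx.1 hy.1
  have := h.der_semireg hc hb ?_
  · rw [mul_inv_eq_one, mul_inv_eq_iff_eq_mul] at this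
    exact this
  · simp [Perm.mul_apply, hx.2, hy.2, Perm.inv_eq_iff_eq.2 hx.2.symm, Perm.inv_eq_iff_eq.2 hy.2.symm]

theorem zgroup_D (h : Hyp G) (a b : Ω) : IsZGroup (st (st G a) b) :=
  haveI := h.zgroup a
  zgroup_of_le (st_le _ b)

theorem isCyclic_D (h : Hyp G) {a b : Ω} (hb : b ≠ a) : IsCyclic (st (st G a) b) := by
  haveI := h.zgroup_D a b
  haveI : IsMulCommutative (st (st G a) b) :=
    ⟨⟨fun x y => Subtype.ext (h.D_comm hb x.2 y.2)⟩⟩
  letI : CommGroup (st (st G a) b) :=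
    { (inferInstance : Group (st (st G a) b)) with mul_comm := fun x y => mul_comm' x y }
  infer_instance

theorem D_invol_eq (h : Hyp G) {a b : Ω} (hb : b ≠ a) {s t : Perm Ω} (hs : s ∈ st (st G a) b)
    (ht : t ∈ st (st G a) b) (hs2 : orderOf s = 2) (ht2 : orderOf t = 2) : s = t :=
  haveI := h.zgroup_D a b
  invol_eq_subgroup hs ht hs2 ht2 (h.D_comm hb hs ht)

theorem D_fixer_commute (h : Hyp G) {a : Ω} {s : Perm Ω} (hs : s ∈ G) (hsa : s a = a)
    {z : Perm Ω} (hz : z ∈ G) (hza : z a = a) (h2 : orderOf s = 2) (hz2 : orderOf z = 2)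
    (hc : Commute s z) : s = z :=
  haveI := h.zgroup a
  invol_eq_subgroup (mem_st.2 ⟨hs, hsa⟩) (mem_st.2 ⟨hz, hza⟩) h2 hz2 hc

theorem twoPart_st (h : Hyp G) {a b : Ω} (hb : b ≠ a) :
    twoPart (Nat.card (st G a)) = twoPart (Nat.card (st (st G a) b)) := by
  rw [h.card_st hb, twoPart_mul (by obtain ⟨k, hk⟩ := h.odd_pred; omega) Nat.card_pos.ne',
    twoPart_of_odd h.odd_pred, one_mul]

theorem twoPart_card (h : Hyp G) (a : Ω) :
    twoPart (Nat.card G) = twoPart (Nat.card Ω) * twoPart (Nat.card (st G a)) := by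
  rw [h.card_eq a, twoPart_mul h.pos.ne' Nat.card_pos.ne']

/-- A Sylow 2-subgroup of the group is factorised at every point. -/
theorem exists_sylow_factor (h : Hyp G) (x : Ω) : ∃ (P : Subgroup (Perm Ω)) (g : Perm Ω),
    P ≤ G ∧ IsPGroup 2 P ∧ Nat.card P = twoPart (Nat.card G) ∧ g ∈ P ∧ Semireg g ∧
    orderOf g = twoPart (Nat.card Ω) ∧ Nat.card (st P x) = twoPart (Nat.card (st G x)) := by
  obtain ⟨Q, -, hQle, hQp, hQc⟩ := exists_two_subgroup (H := st G x) (Q := ⊥) IsPGroup.of_bot bot_le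
  obtain ⟨P, hQP, hPle, hPp, hPc⟩ := exists_two_subgroup (H := G) hQp (hQle.trans (st_le _ _))
  have hst : Nat.card (st P x) = twoPart (Nat.card (st G x)) := by
    refine Nat.dvd_antisymm (card_dvd_twoPart (hPp.to_le (st_le _ _)) (st_mono hPle x)) ?_
    rw [← hQc]
    exact Subgroup.card_dvd_of_le fun q hq => mem_st.2 ⟨hQP hq, (mem_st.1 (hQle hq)).2⟩
  obtain ⟨g, hg, hs, hc⟩ := h.semi x P hPle hPp hst
  refine ⟨P, g, hPle, hPp, hPc, hg, hs, ?_, hst⟩
  rw [hPc, h.twoPart_card x, hst] at hc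
  exact (mul_right_cancel₀ (twoPart_pos _).ne' hc).symm

/-- A semiregular involution. -/
theorem exists_fpf_invol (h : Hyp G) :
    ∃ u ∈ G, orderOf u = 2 ∧ ∀ y, u y ≠ y := by
  haveI : Nonempty Ω := (Nat.card_pos_iff.1 h.pos).1
  obtain ⟨x⟩ := (inferInstance : Nonempty Ω)
  obtain ⟨P, g, hP, -, -, hg, hs, ho, -⟩ := h.exists_sylow_factor x
  obtain ⟨m, hm⟩ : 2 ∣ orderOf g := ho ▸ two_dvd_twoPart h.pos.ne' (even_iff_two_dvd.1 h.even)
  have hm0 : m ≠ 0 := fun h0 => (orderOf_pos g).ne' (by rw [hm, h0, mul_zero])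
  have ho2 : orderOf (g ^ m) = 2 := by
    rw [orderOf_pow' g hm0, Nat.gcd_eq_right ⟨2, by rw [hm, mul_comm]⟩, hm,
      Nat.mul_div_cancel _ (Nat.pos_of_ne_zero hm0)]
  refine ⟨g ^ m, G.pow_mem (hP hg) m, ho2, fun y hy => ?_⟩
  rw [hs m y hy, orderOf_one] at ho2
  exact absurd ho2 (by norm_num)

theorem eq_one_of_normal_odd (h : Hyp G) (N : Subgroup (Perm Ω)) (hN : N ≤ G)
    (hnorm : ∀ g ∈ G, ∀ n ∈ N, g * n * g⁻¹ ∈ N) (hodd : Odd (Nat.card N)) : N = ⊥ := by
  rw [Subgroup.eq_bot_iff_forall]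
  intro n hn
  by_contra hn1
  obtain ⟨a, ha⟩ : ∃ a, n a ≠ a := by
    by_contra hc
    push Not at hc
    exact hn1 (Equiv.ext hc)
  have horb : ∀ y, ∃ g ∈ N, g a = y := by
    intro y
    by_cases hy : y = a
    · exact ⟨1, N.one_mem, by simp [hy]⟩
    obtain ⟨g, hg, hgy⟩ := h.trans_rest ha hy
    refine ⟨g * n * g⁻¹, hnorm g (mem_st.1 hg).1 n hn, ?_⟩
    rw [Perm.mul_apply, Perm.mul_apply, Perm.inv_eq_iff_eq.2 (mem_st.1 hg).2.symm, hgy]
  have hc := card_eq_ncard_mul N a Set.univ (fun y => iff_of_true (Set.mem_univ y) (horb y))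
  rw [Set.ncard_univ] at hc
  exact Nat.not_even_iff_odd.2 hodd (hc ▸ h.even.mul_right _)

theorem two_of_odd (h : Hyp G) {a b : Ω} (hb : b ≠ a) (hodd : Odd (Nat.card (st (st G a) b))) :
    Nat.card Ω = 2 := by
  haveI := Fact.mk Nat.prime_two
  obtain ⟨P, g, hPG, hPp, hPc, hg, hs, ho, hst⟩ := h.exists_sylow_factor a
  rw [h.twoPart_st hb, twoPart_of_odd hodd] at hst
  have hcP : Nat.card P = orderOf g := by
    rw [hPc, h.twoPart_card a, h.twoPart_st hb, twoPart_of_odd hodd, mul_one, ho]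
  have hPeq : Subgroup.zpowers g = P :=
    Subgroup.eq_of_le_of_card_ge (Subgroup.zpowers_le.2 hg) (by rw [hcP, Nat.card_zpowers])
  let S : Sylow 2 G := Sylow.ofCard (P.subgroupOf G) (by
    rw [Nat.card_congr (Subgroup.subgroupOfEquivOfLe hPG).toEquiv, hPc]; rfl)
  have hScyc : IsCyclic (S : Subgroup G) := by
    haveI : IsCyclic P := hPeq ▸ inferInstance
    exact isCyclic_of_injective (Subgroup.subgroupOfEquivOfLe hPG).toMonoidHom
      (Subgroup.subgroupOfEquivOfLe hPG).injective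
  obtain ⟨Q, N, hN, hc⟩ := ZStar.hasNormalPComplement_of_cyclic S hScyc
  have hNodd : Odd (Nat.card N) := by
    have h2 : ¬ 2 ∣ (Q : Subgroup G).index := Q.not_dvd_index
    rw [hc.index_eq_card] at h2
    rwa [Nat.odd_iff, ← Nat.two_dvd_ne_zero]
  have hbot : N.map G.subtype = ⊥ := by
    refine h.eq_one_of_normal_odd _ (Subgroup.map_subtype_le _) ?_ ?_
    · rintro x hx _ ⟨y, hy, rfl⟩
      exact ⟨⟨x, hx⟩ * y * ⟨x, hx⟩⁻¹, hN.conj_mem y hy _, rfl⟩
    · rwa [Subgroup.card_map_of_injective G.subtype_injective]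
  rw [Subgroup.map_eq_bot_iff_of_injective _ G.subtype_injective] at hbot
  have hcard := hc.card_mul_card
  rw [hbot, Subgroup.card_bot, one_mul, card_sylow Q] at hcard
  have hGP : P = G := Subgroup.eq_of_le_of_card_ge hPG (by rw [hPc, hcard])
  have hgen : ∀ x ∈ G, x ∈ Subgroup.zpowers g := fun x hx => by rw [hPeq, hGP]; exact hx
  have hst1 : ∀ x ∈ st G a, x = 1 := by
    intro x hx
    obtain ⟨hxG, hxa⟩ := mem_st.1 hx
    refine Equiv.ext fun y => ?_
    obtain ⟨k, hk, hky⟩ := h.trans a y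
    obtain ⟨i, rfl⟩ := hgen x hxG
    obtain ⟨j, rfl⟩ := hgen k hk
    rw [← hky, ← Perm.mul_apply, ← zpow_add, add_comm, zpow_add, Perm.mul_apply]
    exact congrArg _ hxa
  by_contra hne
  haveI := Fintype.ofFinite Ω
  obtain ⟨c, hc1, hc2⟩ : ∃ c, c ≠ a ∧ c ≠ b := by
    classical
    by_contra hno
    push Not at hno
    have : (Finset.univ : Finset Ω) ⊆ {a, b} := fun c _ => by
      by_cases hca : c = a
      · simp [hca]
      · simp [hno c hca]
    have h1 := Finset.card_le_card this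
    rw [Finset.card_univ, ← Nat.card_eq_fintype_card] at h1
    have h2 := Finset.card_le_two (a := a) (b := b)
    obtain ⟨k, hk⟩ := h.even
    have := h.pos
    omega
  obtain ⟨k, hk, hkc⟩ := h.trans_rest hb hc1
  rw [hst1 k hk] at hkc
  exact hc2 hkc.symm

end Hyp

end CfsgLib.CycZ
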