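import Cfsg.Agent.Lib.CycZFactor.Hyp

/-!
The image of an involution centraliser on the fixed points of the involution.
-/

namespace CfsgLib.CycZ

set_option linter.unusedSectionVars false
set_option linter.unusedVariables false
set_option linter.style.haveILetI false

open Equiv

theorem card_comap_range {A B : Type*} [Group A] [Group B] [Finite A] (f : A →* B) (H : Subgroup B)
    (hH : H ≤ f.range) : Nat.card (H.comap f) = Nat.card f.ker * Nat.card H := by
  let f' : H.comap f →* H := (f.comp (H.comap f).subtype).codRestrict H (fun x => x.2)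
  have hsurj : Function.Surjective f' := by
    intro y
    obtain ⟨x, hx⟩ := hH y.2
    exact ⟨⟨x, show f x ∈ H from hx ▸ y.2⟩, Subtype.ext hx⟩
  have hker : Nat.card f'.ker = Nat.card f.ker := Nat.card_congr
    { toFun := fun x => ⟨x.1.1, congrArg Subtype.val (show f' x.1 = 1 from x.2)⟩
      invFun := fun x => ⟨⟨x.1, show f x.1 ∈ H by rw [show f x.1 = 1 from x.2]; exact H.one_mem⟩, Subtype.ext x.2⟩
      left_inv := fun _ => rfl
      right_inv := fun _ => rfl }
  rw [← f'.ker.card_mul_index, hker, Subgroup.index_ker, MonoidHom.range_eq_top.2 hsurj, Subgroup.card_top]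

variable {Ω : Type*} [Finite Ω]

theorem le_card_of_semireg {P : Subgroup (Perm Ω)} {x : Ω} {g : Perm Ω} (hg : g ∈ P) (hs : Semireg g) :
    orderOf g * Nat.card (st P x) ≤ Nat.card P := by
  rw [card_eq_ncard_mul P x {y | ∃ p ∈ P, p x = y} (fun y => Iff.rfl)]
  refine Nat.mul_le_mul_right _ ?_
  have hinj : Function.Injective (fun i : Fin (orderOf g) => (g ^ (i : ℕ)) x) := by
    have key : ∀ i j : Fin (orderOf g), (i : ℕ) ≤ j → (g ^ (i : ℕ)) x = (g ^ (j : ℕ)) x → (i : ℕ) = j := by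
      intro i j hij he
      have : (g ^ ((j : ℕ) - i)) x = x := by
        apply (g ^ (i : ℕ)).injective
        rw [← Perm.mul_apply, ← pow_add, Nat.add_sub_cancel' hij, he]
      have h3 := Nat.eq_zero_of_dvd_of_lt (orderOf_dvd_of_pow_eq_one (hs _ x this)) (by omega)
      omega
    intro i j he
    rcases le_total (i : ℕ) j with hle | hle
    · exact Fin.ext (key i j hle he)
    · exact Fin.ext (key j i hle he.symm).symm
  calc orderOf g = (Set.range fun i : Fin (orderOf g) => (g ^ (i : ℕ)) x).ncard := by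
        rw [Set.ncard_range_of_injective hinj, Nat.card_fin]
    _ ≤ _ := Set.ncard_le_ncard (by rintro y ⟨i, rfl⟩; exact ⟨g ^ (i : ℕ), P.pow_mem hg _, rfl⟩)

theorem card_le_of_decomp {P Q : Subgroup (Perm Ω)} {g : Perm Ω}
    (hdec : ∀ p ∈ P, ∃ i : ℕ, ∃ h ∈ Q, p = g ^ i * h) : Nat.card P ≤ orderOf g * Nat.card Q := by
  classical
  haveI := Fintype.ofFinite Ω
  have hd : ∀ p : P, ∃ q : Fin (orderOf g) × Q, p.1 = g ^ (q.1 : ℕ) * q.2.1 := by
    intro p
    obtain ⟨i, h, hh, he⟩ := hdec p p.2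
    exact ⟨(⟨i % orderOf g, Nat.mod_lt _ (orderOf_pos g)⟩, ⟨h, hh⟩), by rw [pow_mod_orderOf]; exact he⟩
  choose f hf using hd
  have hinj : Function.Injective f := fun p q he => Subtype.ext (by rw [hf p, hf q, he])
  calc Nat.card P ≤ Nat.card (Fin (orderOf g) × Q) := Nat.card_le_card_of_injective f hinj
    _ = _ := by rw [Nat.card_prod, Nat.card_fin]

/-- Centraliser of a permutation inside a group. -/
def cz (G : Subgroup (Perm Ω)) (z : Perm Ω) : Subgroup (Perm Ω) := G ⊓ Subgroup.centralizer {z}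

theorem mem_cz {G : Subgroup (Perm Ω)} {z x : Perm Ω} : x ∈ cz G z ↔ x ∈ G ∧ Commute x z := by
  simp only [cz, Subgroup.mem_inf, Subgroup.mem_centralizer_singleton_iff]
  exact Iff.rfl

/-- The fixed points. -/
abbrev Fx (z : Perm Ω) : Type _ := {x : Ω // z x = x}

theorem cz_apply {G : Subgroup (Perm Ω)} {z x : Perm Ω} (hx : x ∈ cz G z) (y : Ω) :
    z (x y) = x y ↔ z y = y := by
  rw [← Perm.mul_apply, ← (mem_cz.1 hx).2.eq, Perm.mul_apply, x.injective.eq_iff]

/-- Restriction to the fixed points. -/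
def proj (G : Subgroup (Perm Ω)) (z : Perm Ω) : cz G z →* Perm (Fx z) where
  toFun x := (x : Perm Ω).subtypePerm (cz_apply x.2)
  map_one' := Equiv.ext fun y => rfl
  map_mul' x y := Equiv.ext fun v => rfl

theorem proj_apply (G : Subgroup (Perm Ω)) (z : Perm Ω) (x : cz G z) (y : Fx z) :
    ((proj G z x) y : Ω) = (x : Perm Ω) y := rfl

/-- The image. -/
def img (G : Subgroup (Perm Ω)) (z : Perm Ω) : Subgroup (Perm (Fx z)) := (proj G z).range

/-- Full preimage in the centraliser. -/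
def pre (G : Subgroup (Perm Ω)) (z : Perm Ω) (H : Subgroup (Perm (Fx z))) : Subgroup (Perm Ω) :=
  (H.comap (proj G z)).map (cz G z).subtype

variable {G : Subgroup (Perm Ω)} {z : Perm Ω}

theorem mem_pre {H : Subgroup (Perm (Fx z))} {x : Perm Ω} :
    x ∈ pre G z H ↔ ∃ hx : x ∈ cz G z, proj G z ⟨x, hx⟩ ∈ H :=
  ⟨fun ⟨y, hy, he⟩ => he ▸ ⟨y.2, hy⟩, fun ⟨hx, hy⟩ => ⟨⟨x, hx⟩, hy, rfl⟩⟩

theorem pre_le (H : Subgroup (Perm (Fx z))) : pre G z H ≤ cz G z := Subgroup.map_subtype_le _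

theorem card_pre {H : Subgroup (Perm (Fx z))} (hH : H ≤ img G z) :
    Nat.card (pre G z H) = Nat.card (proj G z).ker * Nat.card H := by
  rw [pre, Subgroup.card_map_of_injective (cz G z).subtype_injective, card_comap_range _ _ hH]

theorem pre_img : pre G z (img G z) = cz G z := by
  ext x
  rw [mem_pre]
  exact ⟨fun ⟨hx, _⟩ => hx, fun hx => ⟨hx, ⟨⟨x, hx⟩, rfl⟩⟩⟩

theorem st_pre (H : Subgroup (Perm (Fx z))) (x : Fx z) : st (pre G z H) x.1 = pre G z (st H x) := by
  ext p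
  rw [mem_st, mem_pre, mem_pre]
  constructor
  · rintro ⟨⟨hp, hH⟩, hpx⟩
    exact ⟨hp, mem_st.2 ⟨hH, Subtype.ext hpx⟩⟩
  · rintro ⟨hp, hH⟩
    exact ⟨⟨hp, (mem_st.1 hH).1⟩, congrArg Subtype.val (mem_st.1 hH).2⟩

theorem st_cz (x : Fx z) : st (cz G z) x.1 = pre G z (st (img G z) x) := by
  rw [← st_pre, pre_img]

/-- Image of a subgroup of the centraliser. -/
def push (G : Subgroup (Perm Ω)) (z : Perm Ω) (P : Subgroup (Perm Ω)) : Subgroup (Perm (Fx z)) :=
  (P.subgroupOf (cz G z)).map (proj G z)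

theorem mem_push {P : Subgroup (Perm Ω)} {y : Perm (Fx z)} :
    y ∈ push G z P ↔ ∃ x : cz G z, (x : Perm Ω) ∈ P ∧ proj G z x = y := Iff.rfl

theorem push_le (P : Subgroup (Perm Ω)) : push G z P ≤ img G z := by
  rintro y ⟨x, -, rfl⟩
  exact ⟨x, rfl⟩

theorem pGroup_push {P : Subgroup (Perm Ω)} (hP : IsPGroup 2 P) (hle : P ≤ cz G z) :
    IsPGroup 2 (push G z P) :=
  (hP.of_equiv (Subgroup.subgroupOfEquivOfLe hle).symm).map _

/-- A full 2-subgroup of a preimage maps onto a full 2-subgroup. -/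
theorem card_push {H : Subgroup (Perm (Fx z))} (hH : H ≤ img G z) {P : Subgroup (Perm Ω)}
    (hP : P ≤ pre G z H) (hPp : IsPGroup 2 P) (hPc : Nat.card P = twoPart (Nat.card (pre G z H))) :
    push G z P ≤ H ∧ Nat.card (push G z P) = twoPart (Nat.card H) := by
  have hle : push G z P ≤ H := by
    rintro y ⟨x, hx, rfl⟩
    obtain ⟨hx', hy⟩ := mem_pre.1 (hP hx)
    exact hy
  have hPC : P ≤ cz G z := hP.trans (pre_le H)
  refine ⟨hle, ?_⟩
  let f : P.subgroupOf (cz G z) →* Perm (Fx z) := (proj G z).comp (Subgroup.subtype _)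
  have hr : f.range = push G z P := by
    rw [MonoidHom.range_comp, Subgroup.range_subtype]
    rfl
  have hPc' : Nat.card (P.subgroupOf (cz G z)) = Nat.card P :=
    Nat.card_congr (Subgroup.subgroupOfEquivOfLe hPC).toEquiv
  have h1 : Nat.card P = Nat.card f.ker * Nat.card (push G z P) := by
    rw [← hPc', ← f.ker.card_mul_index, Subgroup.index_ker, hr]
  have hk : Nat.card f.ker ∣ twoPart (Nat.card (proj G z).ker) := by
    have hle' : f.ker.map (P.subgroupOf (cz G z)).subtype ≤ (proj G z).ker := by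
      rintro y ⟨x, hx, rfl⟩
      exact hx
    have := card_dvd_twoPart (((hPp.of_equiv (Subgroup.subgroupOfEquivOfLe hPC).symm).to_subgroup f.ker).map
      (P.subgroupOf (cz G z)).subtype) hle'
    rwa [Subgroup.card_map_of_injective (P.subgroupOf (cz G z)).subtype_injective] at this
  have hp := card_dvd_twoPart (pGroup_push hPp hPC) hle
  refine Nat.dvd_antisymm hp ?_
  have h2 : twoPart (Nat.card (proj G z).ker) * twoPart (Nat.card H) =
      Nat.card f.ker * Nat.card (push G z P) := by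
    rw [← h1, hPc, card_pre hH, twoPart_mul Nat.card_pos.ne' Nat.card_pos.ne']
  obtain ⟨c, hc⟩ := hk
  rw [hc, mul_assoc] at h2
  have := Nat.eq_of_mul_eq_mul_left (Nat.pos_of_ne_zero (fun h0 => (twoPart_pos (Nat.card (proj G z).ker)).ne'
    (by rw [hc, h0, zero_mul]))) h2
  exact ⟨c, by rw [← this, mul_comm]⟩

theorem card_cz : Nat.card (cz G z) = Nat.card (proj G z).ker * Nat.card (img G z) := by
  have := card_pre (G := G) (z := z) le_rfl
  rwa [pre_img] at this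

theorem proj_one_apply {x : cz G z} (h : proj G z x = 1) (y : Fx z) : (x : Perm Ω) y.1 = y.1 := by
  rw [← proj_apply G z x y, h]
  rfl

/-- An involution of a two-point stabiliser. -/
structure Inv (G : Subgroup (Perm Ω)) (z : Perm Ω) (a b : Ω) : Prop where
  hyp : Hyp G
  ne : b ≠ a
  mem : z ∈ st (st G a) b
  order : orderOf z = 2

namespace Inv

variable {a b : Ω} (I : Inv G z a b)
include I

theorem memG : z ∈ G := (mem_st.1 (mem_st.1 I.mem).1).1

theorem sq_one : z * z = 1 := by rw [← sq, ← I.order, pow_orderOf_eq_one]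

theorem eq_of_fix {x : Perm Ω} (hx : x ∈ G) (hx2 : orderOf x = 2) (hc : Commute x z) {y : Fx z}
    (hy : x y.1 = y.1) : x = z :=
  I.hyp.D_fixer_commute hx hy I.memG y.2 hx2 I.order hc

/-- The centraliser contains a full 2-subgroup of each stabiliser of a fixed point. -/
theorem twoPart_st_cz (x : Fx z) :
    twoPart (Nat.card (st (cz G z) x.1)) = twoPart (Nat.card (st G x.1)) := by
  refine Nat.dvd_antisymm (twoPart_mono Nat.card_pos.ne' (Subgroup.card_dvd_of_le (st_mono inf_le_left _))) ?_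
  have hzst : Subgroup.zpowers z ≤ st G x.1 := Subgroup.zpowers_le.2 (mem_st.2 ⟨I.memG, x.2⟩)
  obtain ⟨Q, hzQ, hQ, hQp, hQc⟩ :=
    exists_two_subgroup (pGroup_zpowers (g := z) (k := 1) (by rw [pow_one, sq, I.sq_one])) hzst
  haveI := I.hyp.zgroup x.1
  haveI : IsZGroup Q := zgroup_of_le (K := st G x.1) hQ
  haveI : IsCyclic Q := by
    haveI := Fact.mk Nat.prime_two
    haveI := hQp.isNilpotent
    infer_instance
  have hle : Q ≤ st (cz G z) x.1 := by
    intro q hq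
    obtain ⟨hqG, hqx⟩ := mem_st.1 (hQ hq)
    refine mem_st.2 ⟨mem_cz.2 ⟨hqG, ?_⟩, hqx⟩
    letI := IsCyclic.commGroup (α := Q)
    exact congrArg Subtype.val (mul_comm (⟨q, hq⟩ : Q) ⟨z, hzQ (Subgroup.mem_zpowers z)⟩)
  rw [← hQc]
  exact card_dvd_twoPart hQp hle

theorem even_fx : Even (Nat.card (Fx z)) := by
  classical
  haveI := Fintype.ofFinite Ω
  have h2 := Perm.two_dvd_card_support (σ := z) (by rw [sq, I.sq_one])
  have h3 : Nat.card (Fx z) + z.support.card = Nat.card Ω := by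
    rw [Nat.card_eq_fintype_card, Nat.card_eq_fintype_card, Fintype.card_subtype, add_comm]
    have : (Finset.univ.filter fun x => z x = x) = z.supportᶜ := by ext x; simp
    rw [this, Finset.card_add_card_compl]
  obtain ⟨k, hk⟩ := I.hyp.even
  obtain ⟨l, hl⟩ := h2
  exact ⟨k - l, by omega⟩

theorem lt_fx : Nat.card (Fx z) < Nat.card Ω := by
  classical
  haveI := Fintype.ofFinite Ω
  rw [Nat.card_eq_fintype_card, Nat.card_eq_fintype_card]
  obtain ⟨x, hx⟩ : ∃ x, ¬ z x = x := by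
    by_contra hc
    push Not at hc
    have : z = 1 := Equiv.ext hc
    have := I.order
    simp_all
  exact Fintype.card_subtype_lt (x := x) hx

theorem img_two (p q r s : Fx z) (hpq : p ≠ q) (hrs : r ≠ s) :
    ∃ g ∈ img G z, g p = r ∧ g q = s := by
  obtain ⟨g, hg, h1, h2⟩ := I.hyp.two p.1 q.1 r.1 s.1 (fun h => hpq (Subtype.ext h)) (fun h => hrs (Subtype.ext h))
  have hz' : g * z * g⁻¹ = z := by
    refine I.hyp.D_invol_eq (Subtype.val_injective.ne hrs.symm) ?_ ?_ ?_ I.order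
    · refine mem_st.2 ⟨mem_st.2 ⟨G.mul_mem (G.mul_mem hg I.memG) (G.inv_mem hg), ?_⟩, ?_⟩
      · rw [Perm.mul_apply, Perm.mul_apply, Perm.inv_eq_iff_eq.2 h1.symm, p.2, h1]
      · rw [Perm.mul_apply, Perm.mul_apply, Perm.inv_eq_iff_eq.2 h2.symm, q.2, h2]
    · exact mem_st.2 ⟨mem_st.2 ⟨I.memG, r.2⟩, s.2⟩
    · rw [← MulAut.conj_apply, MulEquiv.orderOf_eq, I.order]
  have hgc : g ∈ cz G z := mem_cz.2 ⟨hg, mul_inv_eq_iff_eq_mul.1 hz'⟩
  exact ⟨proj G z ⟨g, hgc⟩, ⟨_, rfl⟩, Subtype.ext h1, Subtype.ext h2⟩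

theorem img_zgroup (x : Fx z) : IsZGroup (st (img G z) x) := by
  have hle : st (cz G z) x.1 ≤ st G x.1 := st_mono inf_le_left _
  haveI := I.hyp.zgroup x.1
  haveI : IsZGroup (st (cz G z) x.1) := zgroup_of_le hle
  let f : st (cz G z) x.1 →* st (img G z) x :=
    { toFun := fun p => ⟨proj G z ⟨p.1, (mem_st.1 p.2).1⟩, mem_st.2 ⟨⟨_, rfl⟩, Subtype.ext (mem_st.1 p.2).2⟩⟩
      map_one' := Subtype.ext (map_one (proj G z))
      map_mul' := fun p q => Subtype.ext (map_mul (proj G z) ⟨p.1, (mem_st.1 p.2).1⟩ ⟨q.1, (mem_st.1 q.2).1⟩) }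
  refine IsZGroup.of_surjective (f := f) ?_
  rintro ⟨y, hy⟩
  obtain ⟨⟨p, hp⟩, rfl⟩ := (mem_st.1 hy).1
  exact ⟨⟨p, mem_st.2 ⟨hp, congrArg Subtype.val (mem_st.1 hy).2⟩⟩, rfl⟩

theorem semireg_proj {g : Perm Ω} (hgc : g ∈ cz G z) (hs : Semireg g) :
    Semireg (proj G z ⟨g, hgc⟩) ∧ (∀ y : Fx z, orderOf (proj G z ⟨g, hgc⟩) = orderOf g) := by
  constructor
  · intro i y hy
    rw [← map_pow] at hy ⊢
    have := hs i y.1 (congrArg Subtype.val hy)
    have h1 : (⟨g, hgc⟩ : cz G z) ^ i = 1 := Subtype.ext this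
    rw [h1, map_one]
  · intro y
    refine orderOf_eq_orderOf_iff.2 fun i => ⟨fun hy => ?_, fun hy => ?_⟩
    · rw [← map_pow] at hy
      exact hs i y.1 (congrArg Subtype.val (DFunLike.congr_fun hy y))
    · rw [← map_pow, show (⟨g, hgc⟩ : cz G z) ^ i = 1 from Subtype.ext hy, map_one]

theorem img_semi (x : Fx z) (Pb : Subgroup (Perm (Fx z))) (hPb : Pb ≤ img G z) (hPbp : IsPGroup 2 Pb)
    (hPbc : Nat.card (st Pb x) = twoPart (Nat.card (st (img G z) x))) :
    ∃ g ∈ Pb, Semireg g ∧ Nat.card Pb = orderOf g * Nat.card (st Pb x) := by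
  obtain ⟨Q, -, hQ, hQp, hQc⟩ :=
    exists_two_subgroup (H := st (pre G z Pb) x.1) (Q := ⊥) IsPGroup.of_bot bot_le
  obtain ⟨P, hQP, hP, hPp, hPc⟩ := exists_two_subgroup (H := pre G z Pb) hQp (hQ.trans (st_le _ _))
  have hPC : P ≤ cz G z := hP.trans (pre_le _)
  have hPG : P ≤ G := hPC.trans inf_le_left
  have hst : Nat.card (st P x.1) = twoPart (Nat.card (st G x.1)) := by
    refine Nat.dvd_antisymm (card_dvd_twoPart (hPp.to_le (st_le _ _)) (st_mono hPG _)) ?_
    have h1 : twoPart (Nat.card (st (pre G z Pb) x.1)) = twoPart (Nat.card (st (cz G z) x.1)) := by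
      rw [st_pre, st_cz, card_pre ((st_le _ _).trans hPb), card_pre (st_le _ _),
        twoPart_mul Nat.card_pos.ne' Nat.card_pos.ne', twoPart_mul Nat.card_pos.ne' Nat.card_pos.ne', hPbc]
      rw [twoPart_twoPart]
    rw [← I.twoPart_st_cz x, ← h1, ← hQc]
    exact Subgroup.card_dvd_of_le fun q hq => mem_st.2 ⟨hQP hq, (mem_st.1 (hQ hq)).2⟩
  obtain ⟨g, hg, hs, hc⟩ := I.hyp.semi x.1 P hPG hPp hst
  obtain ⟨hle, hcard⟩ := card_push hPb hP hPp hPc
  have heq : push G z P = Pb := by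
    refine Subgroup.eq_of_le_of_card_ge hle ?_
    obtain ⟨k, hk⟩ := IsPGroup.iff_card.1 hPbp
    rw [hcard, hk, twoPart_pow]
  obtain ⟨hsb, hob⟩ := I.semireg_proj (hPC hg) hs
  have hgb : proj G z ⟨g, hPC hg⟩ ∈ Pb := heq ▸ ⟨⟨g, hPC hg⟩, hg, rfl⟩
  refine ⟨_, hgb, hsb, le_antisymm ?_ (le_card_of_semireg hgb hsb)⟩
  refine card_le_of_decomp fun p hp => ?_
  rw [← heq] at hp
  obtain ⟨⟨q, hq⟩, hqP, rfl⟩ := hp
  obtain ⟨i, -, k, hk, rfl⟩ := decomp hg hs hc hqP
  obtain ⟨hkP, hkx⟩ := mem_st.1 hk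
  refine ⟨i, proj G z ⟨k, hPC hkP⟩, mem_st.2 ⟨heq ▸ ⟨⟨k, hPC hkP⟩, hkP, rfl⟩, Subtype.ext hkx⟩, ?_⟩
  rw [← map_pow, ← map_mul]
  rfl

theorem img_hyp : Hyp (img G z) where
  two := I.img_two
  even := I.even_fx
  pos := Nat.card_pos_iff.2 ⟨⟨⟨a, (mem_st.1 (mem_st.1 I.mem).1).2⟩⟩, inferInstance⟩
  zgroup := I.img_zgroup
  semi := I.img_semi

end Inv

end CfsgLib.CycZ
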