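import Cfsg.Agent.Lib.CycZFactor.Hyp

/-!
Facts on the sharply triply transitive groups occurring as images of involution centralisers.
-/

namespace CfsgLib.CycZ

set_option linter.unusedSectionVars false
set_option linter.unusedVariables false
set_option linter.style.haveILetI false

open Equiv

variable {Ω : Type*} [Fintype Ω] [DecidableEq Ω] {G : Subgroup (Perm Ω)}

theorem trans_of_normal (h : Hyp G) (N : Subgroup (Perm Ω))
    (hnorm : ∀ g ∈ G, ∀ n ∈ N, g * n * g⁻¹ ∈ N) (hne : N ≠ ⊥) (a y : Ω) : ∃ g ∈ N, g a = y := by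
  obtain ⟨n, hn, hn1⟩ : ∃ n ∈ N, n ≠ 1 := by
    by_contra hc
    push Not at hc
    exact hne ((Subgroup.eq_bot_iff_forall _).2 hc)
  obtain ⟨c, hc⟩ : ∃ c, n c ≠ c := by
    by_contra hc
    push Not at hc
    exact hn1 (Equiv.ext hc)
  by_cases hy : y = a
  · exact ⟨1, N.one_mem, by simp [hy]⟩
  obtain ⟨g, hg, hgc, hgn⟩ := h.two c (n c) a y (Ne.symm hc) (Ne.symm hy)
  refine ⟨g * n * g⁻¹, hnorm g hg n hn, ?_⟩
  rw [Perm.mul_apply, Perm.mul_apply, Perm.inv_eq_iff_eq.2 hgc.symm, hgn]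

theorem conj_sq {M : Type*} [Group M] {s x : M} (hs : s * s = 1) (hx : s * x * s = x⁻¹) :
    x⁻¹ * s * x = s * x ^ 2 := by
  rw [← hx, mul_assoc (s * x) s s, hs, mul_one, sq, mul_assoc]

namespace Good

variable (hg : Good G)
include hg

theorem exists_swap (h : Hyp G) {a b c : Ω} (hab : a ≠ b) (hac : a ≠ c) (hbc : b ≠ c) :
    ∃ w ∈ G, w a = b ∧ w b = a ∧ w c = c := by
  obtain ⟨g, hgG, hga, hgb⟩ := h.two a b b a hab hab.symm
  have horb : Nat.card (st (st G a) b) ≤ (({a, b} : Set Ω)ᶜ).ncard := by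
    rw [hg.cardD a b hab, Set.ncard_compl, Set.ncard_pair hab]
  have hsub : Set.range (fun d : st (st G a) b => d.1 c) ⊆ ({a, b} : Set Ω)ᶜ := by
    rintro y ⟨d, rfl⟩
    obtain ⟨hd, hdb⟩ := mem_st.1 d.2
    intro hmem
    simp only [Set.mem_insert_iff, Set.mem_singleton_iff] at hmem
    rcases hmem with h1 | h1
    · exact hac (d.1.injective ((mem_st.1 hd).2.trans h1.symm))
    · exact hbc (d.1.injective (hdb.trans h1.symm))
  have hinj : Function.Injective (fun d : st (st G a) b => d.1 c) := by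
    intro d e he
    obtain ⟨hd, hdb⟩ := mem_st.1 d.2
    obtain ⟨he', heb⟩ := mem_st.1 e.2
    refine Subtype.ext (inv_mul_eq_one.1 (hg.free _ (G.mul_mem (G.inv_mem (mem_st.1 he').1) (mem_st.1 hd).1)
      a b c hab hbc hac ?_ ?_ ?_)).symm
    · rw [Perm.mul_apply, (mem_st.1 hd).2, Perm.inv_eq_iff_eq, (mem_st.1 he').2]
    · rw [Perm.mul_apply, hdb, Perm.inv_eq_iff_eq, heb]
    · rw [Perm.mul_apply, Perm.inv_eq_iff_eq]
      exact he
  have heq : Set.range (fun d : st (st G a) b => d.1 c) = ({a, b} : Set Ω)ᶜ := by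
    refine Set.eq_of_subset_of_ncard_le hsub ?_
    rw [Set.ncard_range_of_injective hinj, Set.ncard_compl, Set.ncard_pair hab, hg.cardD a b hab]
  have hgc : g c ∈ ({a, b} : Set Ω)ᶜ := by
    intro hmem
    simp only [Set.mem_insert_iff, Set.mem_singleton_iff] at hmem
    rcases hmem with h1 | h1
    · exact hbc (g.injective (hgb.trans h1.symm))
    · exact hac (g.injective (hga.trans h1.symm))
  rw [← heq] at hgc
  obtain ⟨d, hd : d.1 c = g c⟩ := hgc
  obtain ⟨hd', hdb⟩ := mem_st.1 d.2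
  refine ⟨g⁻¹ * d.1, G.mul_mem (G.inv_mem hgG) (mem_st.1 hd').1, ?_, ?_, ?_⟩
  · rw [Perm.mul_apply, (mem_st.1 hd').2, Perm.inv_eq_iff_eq, hgb]
  · rw [Perm.mul_apply, hdb, Perm.inv_eq_iff_eq, hga]
  · rw [Perm.mul_apply, hd, ← Perm.mul_apply, inv_mul_cancel]; rfl

theorem mul_self_of_swap {a b c : Ω} (hab : a ≠ b) (hac : a ≠ c) (hbc : b ≠ c) {w : Perm Ω}
    (hw : w ∈ G) (h1 : w a = b) (h2 : w b = a) (h3 : w c = c) : w * w = 1 :=
  hg.free _ (G.mul_mem hw hw) a b c hab hbc hac (by simp [h1, h2]) (by simp [h1, h2]) (by simp [h3])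

theorem swap_inverts (h : Hyp G) (h4 : 4 ∣ Nat.card Ω) {a b : Ω} (hab : a ≠ b) {s : Perm Ω}
    (hs : s ∈ G) (hsa : s a = b) (hsb : s b = a) (hs2 : s * s = 1) {x : Perm Ω}
    (hx : x ∈ st (st G a) b) : s * x * s = x⁻¹ := by
  classical
  have hsinv : s⁻¹ = s := inv_eq_of_mul_eq_one_left hs2
  have hconjD : ∀ d ∈ st (st G a) b, s * d * s ∈ st (st G a) b := by
    intro d hd
    obtain ⟨hd', hdb⟩ := mem_st.1 hd
    obtain ⟨hdG, hda⟩ := mem_st.1 hd'
    refine mem_st.2 ⟨mem_st.2 ⟨G.mul_mem (G.mul_mem hs hdG) hs, ?_⟩, ?_⟩ <;>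
      simp [hsa, hsb, hda, hdb]
  let I : Subgroup (Perm Ω) :=
    { carrier := {d | d ∈ st (st G a) b ∧ s * d * s = d⁻¹}
      one_mem' := ⟨Subgroup.one_mem _, by simp [hs2]⟩
      mul_mem' := by
        rintro d e ⟨hd, hd'⟩ ⟨he, he'⟩
        refine ⟨Subgroup.mul_mem _ hd he, ?_⟩
        rw [show s * (d * e) * s = (s * d * s) * (s * e * s) by
          rw [show s * d * s * (s * e * s) = s * d * (s * s) * e * s by group, hs2, mul_one]; group,
          hd', he', ← mul_inv_rev, h.D_comm hab.symm hd he]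
      inv_mem' := by
        rintro d ⟨hd, hd'⟩
        refine ⟨Subgroup.inv_mem _ hd, ?_⟩
        calc s * d⁻¹ * s = s⁻¹ * d⁻¹ * s⁻¹ := by rw [hsinv]
          _ = (s * d * s)⁻¹ := by group
          _ = d⁻¹⁻¹ := by rw [hd'] }
  have hI : I ≤ st (st G a) b := fun d hd => hd.1
  let S : Finset Ω := Finset.univ \ {a, b}
  have hS : S.card = Nat.card Ω - 2 := by
    rw [Finset.card_sdiff_of_subset (Finset.subset_univ _), Finset.card_univ, Nat.card_eq_fintype_card]
    simp [hab]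
  have hw : ∀ c ∈ S, ∃ w ∈ G, w a = b ∧ w b = a ∧ w c = c := by
    intro c hc
    simp only [S, Finset.mem_sdiff, Finset.mem_univ, true_and, Finset.mem_insert, Finset.mem_singleton, not_or] at hc
    exact hg.exists_swap h hab (Ne.symm hc.1) (Ne.symm hc.2)
  choose! w hwG hwa hwb hwc using hw
  have hwS : ∀ c ∈ S, w c * w c = 1 := by
    intro c hc
    have hc' := hc
    simp only [S, Finset.mem_sdiff, Finset.mem_univ, true_and, Finset.mem_insert, Finset.mem_singleton, not_or] at hc'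
    exact hg.mul_self_of_swap hab (Ne.symm hc'.1) (Ne.symm hc'.2) (hwG c hc) (hwa c hc) (hwb c hc) (hwc c hc)
  let Ifin : Finset (Perm Ω) := Finset.univ.filter (fun d => d ∈ I)
  have hIc : Ifin.card = Nat.card I := by
    rw [Nat.card_eq_fintype_card, Fintype.card_subtype]
  have himg : S.image (fun c => s * w c) ⊆ Ifin := by
    intro d hd
    obtain ⟨c, hc, rfl⟩ := Finset.mem_image.1 hd
    refine Finset.mem_filter.2 ⟨Finset.mem_univ _, mem_st.2 ⟨mem_st.2 ⟨G.mul_mem hs (hwG c hc), ?_⟩, ?_⟩, ?_⟩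
    · simp [hwa c hc, hsb]
    · simp [hwb c hc, hsa]
    · rw [mul_inv_rev, hsinv, inv_eq_of_mul_eq_one_left (hwS c hc), ← mul_assoc, hs2, one_mul]
  have hfib : ∀ d ∈ S.image (fun c => s * w c), (S.filter (fun c => s * w c = d)).card ≤ 2 := by
    intro d hd
    obtain ⟨c, hc, rfl⟩ := Finset.mem_image.1 hd
    by_contra hbig
    obtain ⟨x, y, z, hx, hy, hz, hxy, hxz, hyz⟩ := Finset.two_lt_card_iff.1 (by omega :
      2 < (S.filter (fun v => s * w v = s * w c)).card)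
    have hfix : ∀ v ∈ S.filter (fun v => s * w v = s * w c), w c v = v := fun v hv => by
      obtain ⟨hvS, hve⟩ := Finset.mem_filter.1 hv
      rw [mul_right_inj] at hve
      exact hve ▸ hwc v hvS
    have := hg.free _ (hwG c hc) x y z hxy hyz hxz (hfix x hx) (hfix y hy) (hfix z hz)
    exact hab (by have e := hwa c hc; rw [this] at e; exact e)
  have hcount := Finset.card_le_mul_card_image S 2 hfib
  have hle := Finset.card_le_card himg
  obtain ⟨q, hq⟩ := h4
  have hDc := hg.cardD a b hab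
  obtain ⟨e, he⟩ := exists_prime_orderOf_dvd_card' (G := st (st G a) b) 2 (by rw [hDc, hq]; omega)
  have he2 : orderOf (e : Perm Ω) = 2 := by rw [Subgroup.orderOf_coe, he]
  have hee : (e : Perm Ω)⁻¹ = e := inv_eq_of_mul_eq_one_left (by rw [← sq, ← he2, pow_orderOf_eq_one])
  have heI : (e : Perm Ω) ∈ I := by
    refine ⟨e.2, ?_⟩
    rw [hee]
    refine h.D_invol_eq hab.symm (hconjD _ e.2) e.2 ?_ he2
    conv_lhs => arg 1; arg 2; rw [← hsinv]
    rw [← MulAut.conj_apply, MulEquiv.orderOf_eq, he2]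
  have h2I : 2 ∣ Nat.card I := he2 ▸ Subgroup.orderOf_dvd_natCard I heI
  have hdvd : Nat.card I ∣ Nat.card Ω - 2 := hDc ▸ Subgroup.card_dvd_of_le hI
  obtain ⟨i, hi⟩ := h2I
  obtain ⟨j, hj⟩ := hdvd
  have hfour := hg.four
  have hIeq : Nat.card I = Nat.card Ω - 2 := by
    rcases Nat.lt_or_ge j 3 with hj3 | hj3
    · interval_cases j
      · omega
      · omega
      · rw [hi] at hj
        omega
    · exfalso
      have h3 : Nat.card I * 3 ≤ Nat.card I * j := Nat.mul_le_mul_left _ hj3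
      omega
  have : I = st (st G a) b := Subgroup.eq_of_le_of_card_ge hI (by rw [hDc, hIeq])
  have hx' : x ∈ I := this ▸ hx
  exact hx'.2

theorem fpf_conj (h : Hyp G) (h4 : 4 ∣ Nat.card Ω) {s t : Perm Ω} (hs : s ∈ G) (ht : t ∈ G)
    (hs2 : s * s = 1) (ht2 : t * t = 1) (hsf : ∀ v, s v ≠ v) (htf : ∀ v, t v ≠ v) :
    ∃ x ∈ G, x * s * x⁻¹ = t := by
  obtain ⟨a⟩ : Nonempty Ω := (Nat.card_pos_iff.1 h.pos).1
  set b := s a with hb
  have hab : a ≠ b := (hsf a).symm
  have hsb : s b = a := by rw [hb, ← Perm.mul_apply, hs2]; rfl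
  obtain ⟨y, hy, hya, hyb⟩ := h.two a (t a) a b (htf a).symm hab
  set t' := y * t * y⁻¹ with ht'
  have hyia : y⁻¹ a = a := Perm.inv_eq_iff_eq.2 hya.symm
  have hyib : y⁻¹ b = t a := Perm.inv_eq_iff_eq.2 hyb.symm
  have ht'G : t' ∈ G := G.mul_mem (G.mul_mem hy ht) (G.inv_mem hy)
  have ht'a : t' a = b := by rw [ht', Perm.mul_apply, Perm.mul_apply, hyia, hyb]
  have ht'b : t' b = a := by
    rw [ht', Perm.mul_apply, Perm.mul_apply, hyib, ← Perm.mul_apply t, ht2, Perm.one_apply, hya]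
  have ht'2 : t' * t' = 1 := by
    rw [ht', show y * t * y⁻¹ * (y * t * y⁻¹) = y * (t * t) * y⁻¹ by group, ht2, mul_one, mul_inv_cancel]
  have ht'f : ∀ v, t' v ≠ v := fun v hv => htf (y⁻¹ v) (by
    rw [ht', Perm.mul_apply, Perm.mul_apply] at hv
    exact (Perm.inv_eq_iff_eq.2 hv.symm).symm)
  suffices hmain : ∃ x ∈ G, x * s * x⁻¹ = t' by
    obtain ⟨x, hx, hxs⟩ := hmain
    refine ⟨y⁻¹ * x, G.mul_mem (G.inv_mem hy) hx, ?_⟩
    rw [show y⁻¹ * x * s * (y⁻¹ * x)⁻¹ = y⁻¹ * (x * s * x⁻¹) * y by group, hxs, ht']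
    group
  have hinv : ∀ d ∈ st (st G a) b, s * d * s = d⁻¹ := fun d hd =>
    hg.swap_inverts h h4 hab hs rfl hsb hs2 hd
  have hinv' : ∀ d ∈ st (st G a) b, t' * d * t' = d⁻¹ := fun d hd =>
    hg.swap_inverts h h4 hab ht'G ht'a ht'b ht'2 hd
  haveI := h.isCyclic_D hab.symm
  obtain ⟨d0, hd0⟩ := IsCyclic.exists_generator (α := st (st G a) b)
  have hgen : ∀ d ∈ st (st G a) b, ∃ k : ℤ, (d0 : Perm Ω) ^ k = d := fun d hd => by
    obtain ⟨k, hk⟩ := hd0 ⟨d, hd⟩
    exact ⟨k, by simpa using congrArg Subtype.val hk⟩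
  have hst : s * t' ∈ st (st G a) b :=
    mem_st.2 ⟨mem_st.2 ⟨G.mul_mem hs ht'G, by rw [Perm.mul_apply, ht'a, hsb]⟩, by rw [Perm.mul_apply, ht'b]⟩
  obtain ⟨k, hk⟩ := hgen _ hst
  have ht'eq : t' = s * (d0 : Perm Ω) ^ k := by rw [hk, ← mul_assoc, hs2, one_mul]
  rcases Int.even_or_odd' k with ⟨l, rfl | rfl⟩
  · refine ⟨((d0 : Perm Ω) ^ l)⁻¹, G.inv_mem (mem_st.1 (mem_st.1 (Subgroup.zpow_mem _ d0.2 l)).1).1, ?_⟩
    rw [inv_inv, conj_sq hs2 (hinv _ (Subgroup.zpow_mem _ d0.2 l)), ht'eq, ← zpow_natCast _ 2, ← zpow_mul,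
      mul_comm l]
    norm_num
  · exfalso
    obtain ⟨c, hca, hcb⟩ : ∃ c, c ≠ a ∧ c ≠ b := by
      have : 2 < Fintype.card Ω := by
        have := hg.four
        rw [Nat.card_eq_fintype_card] at this
        omega
      obtain ⟨c, hc⟩ := Finset.card_pos.1 (show 0 < (Finset.univ \ ({a, b} : Finset Ω)).card by
        rw [Finset.card_sdiff_of_subset (Finset.subset_univ _), Finset.card_univ]
        simp [hab]
        omega)
      simp at hc
      exact ⟨c, hc.1, hc.2⟩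
    obtain ⟨w, hw, hwa, hwb, hwc⟩ := hg.exists_swap h hab hca.symm hcb.symm
    have hsw : s * w ∈ st (st G a) b :=
      mem_st.2 ⟨mem_st.2 ⟨G.mul_mem hs hw, by rw [Perm.mul_apply, hwa, hsb]⟩, by rw [Perm.mul_apply, hwb]⟩
    obtain ⟨i, hi⟩ := hgen _ hsw
    have hweq : w = s * (d0 : Perm Ω) ^ i := by rw [hi, ← mul_assoc, hs2, one_mul]
    rcases Int.even_or_odd' i with ⟨j, rfl | rfl⟩
    · have hconj := conj_sq hs2 (hinv _ (Subgroup.zpow_mem _ d0.2 j))
      rw [← zpow_natCast _ 2, ← zpow_mul, mul_comm j] at hconj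
      rw [show (((2 : ℕ) : ℤ) * j) = 2 * j from rfl, ← hweq] at hconj
      rw [← hconj, Perm.mul_apply, Perm.mul_apply, Perm.inv_eq_iff_eq] at hwc
      exact hsf _ hwc
    · have hmem := Subgroup.zpow_mem _ d0.2 (j - l)
      have hconj := conj_sq ht'2 (hinv' _ hmem)
      have hweq' : w = t' * (((d0 : Perm Ω) ^ (j - l)) ^ 2) := by
        rw [hweq, ht'eq, ← zpow_natCast _ 2, ← zpow_mul, mul_assoc, ← zpow_add]
        congr 2
        push_cast
        ring
      rw [← hweq'] at hconj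
      rw [← hconj, Perm.mul_apply, Perm.mul_apply, Perm.inv_eq_iff_eq] at hwc
      exact ht'f _ hwc

set_option maxHeartbeats 1600000 in
/-- In such a group there cannot be exactly one class member of even involutions in a 2-subgroup. -/
theorem not_unique_even_invol (h : Hyp G) {P : Subgroup (Perm Ω)} {u : Perm Ω} (hP : P ≤ G)
    (hPp : IsPGroup 2 P) (hPc : Nat.card P = twoPart (Nat.card G))
    (hu : u ∈ P) (hu2 : orderOf u = 2) (hus : Perm.sign u = 1)
    (huniq : ∀ x ∈ P, orderOf x = 2 → Perm.sign x = 1 → x = u) : False := by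
  classical
  let σ : G →* ℤˣ := Perm.sign.comp G.subtype
  let uM : σ.ker := ⟨⟨u, hP hu⟩, hus⟩
  have huM2 : orderOf uM = 2 := by rw [← Subgroup.orderOf_coe, ← Subgroup.orderOf_coe]; exact hu2
  have hiso : Cfsg.IsIsolatedInvolution uM := by
    refine ⟨huM2, fun x hc => ?_⟩
    set v := x * uM * x⁻¹ with hv
    have hv2 : orderOf v = 2 := by rw [hv, ← MulAut.conj_apply, MulEquiv.orderOf_eq, huM2]
    let v' : Perm Ω := ((v : G) : Perm Ω)
    have hv'2 : orderOf v' = 2 := by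
      show orderOf ((v : G) : Perm Ω) = 2
      rw [Subgroup.orderOf_coe, Subgroup.orderOf_coe, hv2]
    have hcm : Commute u v' := by
      have := congrArg (fun q : σ.ker => ((q : G) : Perm Ω)) hc.eq
      exact this
    let Q := Subgroup.closure ({u, v'} : Set (Perm Ω))
    have hQG : Q ≤ G := by
      rw [Subgroup.closure_le]
      rintro q (rfl | rfl)
      · exact hP hu
      · exact (v : G).2
    haveI : IsMulCommutative Q := Subgroup.isMulCommutative_closure (by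
      rintro p (rfl | rfl) q (rfl | rfl) <;> first | rfl | exact hcm.eq | exact hcm.eq.symm)
    have hQp : IsPGroup 2 Q := by
      intro q
      refine ⟨1, ?_⟩
      obtain ⟨q, hq⟩ := q
      refine Subgroup.closure_induction (p := fun q hq => (⟨q, hq⟩ : Q) ^ (2 ^ 1) = 1) ?_ ?_ ?_ ?_ hq
      · rintro y (rfl | rfl)
        · exact Subtype.ext (by simp [pow_one, ← hu2, pow_orderOf_eq_one])
        · exact Subtype.ext (by simp [pow_one, ← hv'2, pow_orderOf_eq_one])
      · exact one_pow _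
      · intro p q hp hq h1 h2
        have : (⟨p * q, mul_mem hp hq⟩ : Q) = ⟨p, hp⟩ * ⟨q, hq⟩ := rfl
        rw [this, (show Commute (⟨p, hp⟩ : Q) ⟨q, hq⟩ from mul_comm' _ _).mul_pow, h1, h2, one_mul]
      · intro p hp h1
        have : (⟨p⁻¹, inv_mem hp⟩ : Q) = (⟨p, hp⟩ : Q)⁻¹ := rfl
        rw [this, inv_pow, h1, inv_one]
    obtain ⟨c, hcG, hcQ⟩ := exists_conj_into hQp hQG hPp hP hPc
    have e1 := huniq _ (hcQ u (Subgroup.subset_closure (Or.inl rfl)))
      (by rw [← MulAut.conj_apply, MulEquiv.orderOf_eq, hu2]) (by simp [hus])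
    have e2 := huniq _ (hcQ v' (Subgroup.subset_closure (Or.inr rfl)))
      (by rw [← MulAut.conj_apply, MulEquiv.orderOf_eq, hv'2]) (by
        have hvs : Perm.sign v' = 1 := v.2
        simp [hvs])
    exact Subtype.ext (Subtype.ext (show v' = u from mul_left_cancel (mul_right_cancel (e2.trans e1.symm))))
  have hcore : Cfsg.pPrimeCore 2 σ.ker = ⊥ := by
    have hodd : Odd (Nat.card (Cfsg.pPrimeCore 2 σ.ker)) := ZStar.odd_card_core
    have hnorm : ((Cfsg.pPrimeCore 2 σ.ker).map σ.ker.subtype).map G.subtype ≤ (Cfsg.pPrimeCore 2 G).map G.subtype := by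
      refine Subgroup.map_mono (Transfer.le_pPrimeCore inferInstance ?_)
      rw [Subgroup.card_map_of_injective σ.ker.subtype_injective]
      exact Transfer.pPrimeCore_coprime 2
    have hbot : (Cfsg.pPrimeCore 2 G).map G.subtype = ⊥ := by
      refine h.eq_one_of_normal_odd _ (Subgroup.map_subtype_le _) ?_ ?_
      · rintro x hx _ ⟨y, hy, rfl⟩
        exact ⟨⟨x, hx⟩ * y * ⟨x, hx⟩⁻¹, (Transfer.pPrimeCore_normal 2 G).conj_mem y hy _, rfl⟩
      · rw [Subgroup.card_map_of_injective G.subtype_injective]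
        exact ZStar.odd_card_core
    rw [hbot, le_bot_iff, Subgroup.map_eq_bot_iff_of_injective _ G.subtype_injective,
      Subgroup.map_eq_bot_iff_of_injective _ σ.ker.subtype_injective] at hnorm
    exact hnorm
  have hcent : ∀ x : σ.ker, Commute uM x := fun x =>
    ZStar.commute_of_commutatorsInCore hcore (ZStar.commutatorsInCore_of_isolated hiso) x
  -- the centre of the even part is transitive
  let M : Subgroup (Perm Ω) := σ.ker.map G.subtype
  let Z : Subgroup (Perm Ω) := M ⊓ Subgroup.centralizer (M : Set (Perm Ω))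
  have hMn : ∀ g ∈ G, ∀ n ∈ M, g * n * g⁻¹ ∈ M := by
    rintro g hgG _ ⟨y, hy, rfl⟩
    have hk : σ y = 1 := MonoidHom.mem_ker.1 hy
    refine ⟨⟨g, hgG⟩ * y * ⟨g, hgG⟩⁻¹, MonoidHom.mem_ker.2 ?_, rfl⟩
    rw [map_mul σ, map_mul σ, hk, mul_one, ← map_mul σ, mul_inv_cancel, map_one σ]
  have hZn : ∀ g ∈ G, ∀ n ∈ Z, g * n * g⁻¹ ∈ Z := by
    intro g hgG n hn
    obtain ⟨hnM, hnC⟩ := Subgroup.mem_inf.1 hn
    refine Subgroup.mem_inf.2 ⟨hMn g hgG n hnM, Subgroup.mem_centralizer_iff.2 fun m hm => ?_⟩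
    have h1 := Subgroup.mem_centralizer_iff.1 hnC _ (hMn g⁻¹ (G.inv_mem hgG) m hm)
    rw [inv_inv] at h1
    calc m * (g * n * g⁻¹) = g * (g⁻¹ * m * g * n) * g⁻¹ := by group
      _ = g * (n * (g⁻¹ * m * g)) * g⁻¹ := by rw [h1]
      _ = g * n * g⁻¹ * m := by group
  have huZ : u ∈ Z := by
    refine Subgroup.mem_inf.2 ⟨⟨⟨u, hP hu⟩, hus, rfl⟩, Subgroup.mem_centralizer_iff.2 ?_⟩
    rintro _ ⟨y, hy, rfl⟩
    exact (congrArg (fun q : σ.ker => ((q : G) : Perm Ω)) (hcent ⟨y, hy⟩).eq).symm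
  have hZne : Z ≠ ⊥ := fun he => by
    rw [he, Subgroup.mem_bot] at huZ
    simp [huZ] at hu2
  obtain ⟨a⟩ : Nonempty Ω := (Nat.card_pos_iff.1 h.pos).1
  have hM1 : ∀ x ∈ st G a, Perm.sign x = 1 → x = 1 := by
    intro x hx hxs
    refine Equiv.ext fun y => ?_
    obtain ⟨z, hz, rfl⟩ := trans_of_normal h Z hZn hZne a y
    have := Subgroup.mem_centralizer_iff.1 (Subgroup.mem_inf.1 hz).2 x ⟨⟨x, (mem_st.1 hx).1⟩, hxs, rfl⟩
    rw [← Perm.mul_apply, this, Perm.mul_apply, (mem_st.1 hx).2]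
    rfl
  have hle : Nat.card (st G a) ≤ 2 := by
    let f : st G a →* ℤˣ := Perm.sign.comp (st G a).subtype
    have hinj : Function.Injective f := by
      rw [injective_iff_map_eq_one]
      exact fun x hx => Subtype.ext (hM1 x x.2 hx)
    calc Nat.card (st G a) ≤ Nat.card ℤˣ := Nat.card_le_card_of_injective f hinj
      _ = 2 := by rw [Nat.card_eq_fintype_card, Fintype.card_units_int]
  obtain ⟨b, hb⟩ := h.exists_ne a
  rw [h.card_st hb, hg.cardD a b hb.symm] at hle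
  have := hg.four
  have h3 : 3 * 2 ≤ (Nat.card Ω - 1) * (Nat.card Ω - 2) := Nat.mul_le_mul (by omega) (by omega)
  omega

end Good

end CfsgLib.CycZ
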