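import Cfsg.Agent.Lib.CycZFactor.Image
import Cfsg.Agent.Lib.CycZFactor.Sharply

/-!
With at least four fixed points the involution is isolated.
-/

namespace CfsgLib.CycZ

set_option linter.unusedSectionVars false
set_option linter.unusedVariables false
set_option linter.style.haveILetI false

open Equiv

/-- Conjugate inside `G`. -/
def Conj {M : Type*} [Group M] (G : Subgroup M) (x y : M) : Prop := ∃ c ∈ G, c * x * c⁻¹ = y

theorem Conj.symm {M : Type*} [Group M] {G : Subgroup M} {x y : M} (h : Conj G x y) : Conj G y x := by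
  obtain ⟨c, hc, rfl⟩ := h
  exact ⟨c⁻¹, G.inv_mem hc, by group⟩

theorem Conj.trans {M : Type*} [Group M] {G : Subgroup M} {x y w : M} (h : Conj G x y) (h' : Conj G y w) :
    Conj G x w := by
  obtain ⟨c, hc, rfl⟩ := h
  obtain ⟨d, hd, rfl⟩ := h'
  exact ⟨d * c, G.mul_mem hd hc, by group⟩

theorem Conj.refl {M : Type*} [Group M] {G : Subgroup M} (x : M) : Conj G x x := ⟨1, G.one_mem, by group⟩

theorem conj_pow' {M : Type*} [Group M] (k x : M) (i : ℕ) : k * x ^ i * k⁻¹ = (k * x * k⁻¹) ^ i :=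
  (map_pow (MulAut.conj k) x i)

theorem odd_exponent {M : Type*} [Group M] [Finite M] {k y : M} {e : ℕ} (he : k * y * k⁻¹ = y ^ e)
    (hy : 2 ∣ orderOf y) : Odd e := by
  by_contra hc
  obtain ⟨c, rfl⟩ := Nat.not_odd_iff_even.1 hc
  have h1 : orderOf (y ^ (c + c)) = orderOf y := by
    rw [← he, ← MulAut.conj_apply, MulEquiv.orderOf_eq]
  rw [orderOf_pow, Nat.div_eq_self] at h1
  rcases h1 with h1 | h1
  · exact (orderOf_pos y).ne' h1
  · have h2 : 2 ∣ (orderOf y).gcd (c + c) := Nat.dvd_gcd hy ⟨c, by ring⟩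
    omega

variable {Ω : Type*} [Fintype Ω] [DecidableEq Ω] {G : Subgroup (Perm Ω)}

/-- The data attached to an involution with at least four fixed points. -/
structure Sys (G : Subgroup (Perm Ω)) (z : Perm Ω) (a b : Ω) (w g : Perm Ω) (t : ℕ)
    (P : Subgroup (Perm Ω)) : Prop where
  inv : Inv G z a b
  good : Good (img G z)
  hw : w ∈ st (st G a) b
  ordw : orderOf w = 2 ^ t
  zw : z ∈ Subgroup.zpowers w
  ple : P ≤ cz G z
  pgrp : IsPGroup 2 P
  pcard : Nat.card P = twoPart (Nat.card (cz G z))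
  wP : w ∈ P
  stP : ∀ p ∈ P, p a = a → ∃ m : ℕ, p = w ^ m
  gP : g ∈ P
  gsemi : Semireg g
  ordg : orderOf g = twoPart (Nat.card (Fx z))
  pdec : ∀ p ∈ P, ∃ i < orderOf g, ∃ j : ℕ, p = g ^ i * w ^ j

theorem exists_sys {z : Perm Ω} {a b : Ω} (I : Inv G z a b) (hg : Good (img G z)) :
    ∃ w g t P, Sys G z a b w g t P := by
  haveI := Fact.mk Nat.prime_two
  obtain ⟨T, hzT, hT, hTp, hTc⟩ := exists_two_subgroup
    (pGroup_zpowers (g := z) (k := 1) (by rw [pow_one, sq, I.sq_one])) (Subgroup.zpowers_le.2 I.mem)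
  haveI := I.hyp.isCyclic_D I.ne
  haveI : IsCyclic T := Subgroup.isCyclic_of_le hT
  obtain ⟨w0, hw0⟩ := IsCyclic.exists_generator (α := T)
  have hgen : ∀ x ∈ T, ∃ m : ℕ, x = (w0 : Perm Ω) ^ m := fun x hx => by
    obtain ⟨m, hm⟩ := (mem_powers_iff_mem_zpowers.2 (hw0 ⟨x, hx⟩))
    exact ⟨m, by simpa using (congrArg Subtype.val hm).symm⟩
  obtain ⟨t, ht⟩ := IsPGroup.iff_card.1 hTp
  have hord : orderOf (w0 : Perm Ω) = 2 ^ t := by
    rw [Subgroup.orderOf_coe, orderOf_eq_card_of_forall_mem_zpowers hw0, ht]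
  have hTst : ∀ x ∈ T, x ∈ st (cz G z) a := by
    intro x hx
    obtain ⟨hxa, hxb⟩ := mem_st.1 (hT hx)
    exact mem_st.2 ⟨mem_cz.2 ⟨(mem_st.1 hxa).1, I.hyp.D_comm I.ne (hT hx) I.mem⟩, (mem_st.1 hxa).2⟩
  obtain ⟨P, hTP, hPle, hPp, hPc⟩ := exists_two_subgroup (H := cz G z) hTp (fun x hx => (mem_st.1 (hTst x hx)).1)
  have hPG : P ≤ G := hPle.trans inf_le_left
  have hTc' : Nat.card T = twoPart (Nat.card (st G a)) := by rw [hTc, I.hyp.twoPart_st I.ne]
  have hstT : T = st P a := by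
    refine Subgroup.eq_of_le_of_card_ge (fun x hx => mem_st.2 ⟨hTP hx, (mem_st.1 (hTst x hx)).2⟩) ?_
    rw [hTc']
    exact Nat.le_of_dvd (twoPart_pos _) (card_dvd_twoPart (hPp.to_le (st_le _ _)) (st_mono hPG _))
  obtain ⟨g, hg', hs, hc⟩ := I.hyp.semi a P hPG hPp (by rw [← hstT, hTc'])
  let x : Fx z := ⟨a, (mem_st.1 (mem_st.1 I.mem).1).2⟩
  have hcz : Nat.card (cz G z) = Nat.card (Fx z) * Nat.card (st (cz G z) x.1) := by
    rw [st_cz, card_pre (st_le _ _), card_cz, I.img_hyp.card_eq x]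
    ring
  haveI : Nonempty (Fx z) := ⟨x⟩
  refine ⟨w0, g, t, P, I, hg, hT w0.2, hord, ?_, hPle, hPp, hPc, hTP w0.2, ?_, hg', hs, ?_, ?_⟩
  · obtain ⟨m, hm⟩ := hgen z (hzT (Subgroup.mem_zpowers z))
    exact ⟨m, by simpa using hm.symm⟩
  · exact fun p hp hpa => hgen p (hstT ▸ mem_st.2 ⟨hp, hpa⟩)
  · rw [hPc, hcz, twoPart_mul Nat.card_pos.ne' Nat.card_pos.ne', I.twoPart_st_cz x, ← hTc', ← hstT] at hc
    exact (mul_right_cancel₀ Nat.card_pos.ne' hc).symm
  · intro p hp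
    obtain ⟨i, hi, h, hh, rfl⟩ := decomp hg' hs hc hp
    obtain ⟨m, hm⟩ := hgen h (hstT ▸ hh)
    exact ⟨i, hi, m, by rw [hm]⟩

namespace Sys

variable {z : Perm Ω} {a b : Ω} {w g : Perm Ω} {t : ℕ} {P : Subgroup (Perm Ω)}
  (S : Sys G z a b w g t P)
include S

theorem za : z a = a := (mem_st.1 (mem_st.1 S.inv.mem).1).2
theorem zb : z b = b := (mem_st.1 S.inv.mem).2
theorem wa : w a = a := (mem_st.1 (mem_st.1 S.hw).1).2
theorem wb : w b = b := (mem_st.1 S.hw).2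
theorem pG : P ≤ G := S.ple.trans inf_le_left
theorem zP : z ∈ P := (Subgroup.zpowers_le.2 S.wP) S.zw
theorem z_ne : z ≠ 1 := fun h => by simpa [h] using S.inv.order

/-- The restriction of the semiregular generator. -/
def gF : Perm (Fx z) := proj G z ⟨g, S.ple S.gP⟩

/-- The restriction of the stabiliser generator. -/
def wF : Perm (Fx z) := proj G z ⟨w, S.ple S.wP⟩

theorem proj_form {p : Perm Ω} (hp : p ∈ cz G z) {i j : ℕ} (he : p = g ^ i * w ^ j) :
    proj G z ⟨p, hp⟩ = S.gF ^ i * S.wF ^ j := by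
  rw [gF, wF, ← map_pow, ← map_pow, ← map_mul]
  exact congrArg (proj G z) (Subtype.ext he)

theorem gF_semi : Semireg S.gF := (S.inv.semireg_proj (S.ple S.gP) S.gsemi).1

theorem ord_gF : orderOf S.gF = orderOf g :=
  (S.inv.semireg_proj (S.ple S.gP) S.gsemi).2 ⟨a, S.za⟩

theorem even_g : 2 ∣ orderOf g := by
  rw [S.ordg]
  exact two_dvd_twoPart (Nat.card_pos_iff.2 ⟨⟨⟨a, S.za⟩⟩, inferInstance⟩).ne' (even_iff_two_dvd.1 S.inv.even_fx)

theorem wF_mem : S.wF ∈ st (st (img G z) ⟨a, S.za⟩) ⟨b, S.zb⟩ :=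
  mem_st.2 ⟨mem_st.2 ⟨⟨_, rfl⟩, Subtype.ext S.wa⟩, Subtype.ext S.wb⟩

theorem wF_pow_fix {i : ℕ} {y : Fx z} (hya : y ≠ ⟨a, S.za⟩) (hyb : y ≠ ⟨b, S.zb⟩)
    (hy : (S.wF ^ i) y = y) : S.wF ^ i = 1 := by
  have h := mem_st.1 (Subgroup.pow_mem _ S.wF_mem i)
  exact S.good.free _ (mem_st.1 h.1).1 ⟨a, S.za⟩ ⟨b, S.zb⟩ y
    (fun he => S.inv.ne (congrArg Subtype.val he).symm) hyb.symm hya.symm (mem_st.1 h.1).2 h.2 hy

theorem push_full : push G z P ≤ img G z ∧ Nat.card (push G z P) = twoPart (Nat.card (img G z)) :=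
  card_push le_rfl (by rw [pre_img]; exact S.ple) S.pgrp (by rw [pre_img]; exact S.pcard)

theorem ord_wF : orderOf S.wF = twoPart (Nat.card (Fx z) - 2) := by
  have hne : (⟨b, S.zb⟩ : Fx z) ≠ ⟨a, S.za⟩ := fun h => S.inv.ne (congrArg Subtype.val h)
  have hD := S.good.cardD ⟨a, S.za⟩ ⟨b, S.zb⟩ hne.symm
  have h4 := S.good.four
  have hp : S.wF ^ 2 ^ t = 1 := by
    rw [wF, ← map_pow, show (⟨w, S.ple S.wP⟩ : cz G z) ^ 2 ^ t = 1 from
      Subtype.ext (by rw [SubmonoidClass.coe_pow, ← S.ordw, pow_orderOf_eq_one]; rfl), map_one]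
  refine Nat.dvd_antisymm ?_ ?_
  · rw [← Nat.card_zpowers, ← hD]
    exact card_dvd_twoPart (pGroup_zpowers hp) (Subgroup.zpowers_le.2 S.wF_mem)
  · obtain ⟨k, -, hk⟩ := (Nat.dvd_prime_pow Nat.prime_two).1 (orderOf_dvd_of_pow_eq_one hp)
    have hle : Nat.card (push G z P) ≤ orderOf S.gF * Nat.card (Subgroup.zpowers S.wF) := by
      refine card_le_of_decomp fun p hp => ?_
      obtain ⟨⟨q, hq⟩, hqP, rfl⟩ := hp
      obtain ⟨i, -, j, he⟩ := S.pdec q hqP
      exact ⟨i, S.wF ^ j, Subgroup.pow_mem _ (Subgroup.mem_zpowers _) j, S.proj_form hq he⟩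
    rw [S.push_full.2, Nat.card_zpowers, S.ord_gF, S.ordg, S.inv.img_hyp.twoPart_card ⟨a, S.za⟩,
      S.inv.img_hyp.twoPart_st hne, hD, Nat.mul_le_mul_left_iff (twoPart_pos _)] at hle
    rw [twoPart, hk] at hle ⊢
    exact pow_dvd_pow 2 ((Nat.pow_le_pow_iff_right (by norm_num)).1 hle)

theorem sign_gF : Perm.sign S.gF = -1 := by
  have hpos : 0 < Nat.card (Fx z) := Nat.card_pos_iff.2 ⟨⟨⟨a, S.za⟩⟩, inferInstance⟩
  have hsupp : S.gF.support = Finset.univ := by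
    refine Finset.eq_univ_iff_forall.2 fun y => Perm.mem_support.2 fun hy => ?_
    have h1 := S.gF_semi 1 y (by rwa [pow_one])
    rw [pow_one] at h1
    have h2 := S.even_g
    rw [← S.ord_gF, h1, orderOf_one] at h2
    norm_num at h2
  rw [sign_semiregular S.gF rfl (even_iff_two_dvd.2 (S.ord_gF ▸ S.even_g))
    (fun i y _ hy => S.gF_semi i y hy), hsupp, Finset.card_univ, ← Nat.card_eq_fintype_card, S.ord_gF, S.ordg]
  refine Odd.neg_one_pow ?_
  rw [Nat.odd_iff, ← Nat.two_dvd_ne_zero]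
  exact Nat.not_dvd_ordCompl Nat.prime_two hpos.ne'

theorem sign_wF : Perm.sign S.wF = -1 := by
  have h4 := S.good.four
  obtain ⟨k, hk⟩ := S.inv.even_fx
  have h2 : 2 ∣ orderOf S.wF := S.ord_wF ▸ two_dvd_twoPart (by omega) ⟨k - 1, by omega⟩
  have hfix : ∀ y : Fx z, S.wF y = y ↔ y = ⟨a, S.za⟩ ∨ y = ⟨b, S.zb⟩ := by
    intro y
    refine ⟨fun hy => ?_, ?_⟩
    · by_contra hc
      push Not at hc
      have h1 := S.wF_pow_fix (i := 1) hc.1 hc.2 (by rwa [pow_one])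
      rw [pow_one] at h1
      rw [h1, orderOf_one] at h2
      norm_num at h2
    · rintro (rfl | rfl)
      · exact Subtype.ext S.wa
      · exact Subtype.ext S.wb
  have hsupp : S.wF.support.card = Nat.card (Fx z) - 2 := by
    have : S.wF.support = Finset.univ \ {⟨a, S.za⟩, ⟨b, S.zb⟩} := by
      ext y
      simp [Perm.mem_support, hfix y]
    rw [this, Finset.card_sdiff_of_subset (Finset.subset_univ _), Finset.card_univ, Nat.card_eq_fintype_card,
      Finset.card_pair (fun h => S.inv.ne (congrArg Subtype.val h).symm)]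
  rw [sign_semiregular S.wF rfl (even_iff_two_dvd.2 h2) (fun i y hy hi => by
      have hy' : ¬(y = ⟨a, S.za⟩ ∨ y = ⟨b, S.zb⟩) := fun h => hy ((hfix y).2 h)
      push Not at hy'
      exact S.wF_pow_fix hy'.1 hy'.2 hi),
    hsupp, S.ord_wF]
  refine Odd.neg_one_pow ?_
  rw [Nat.odd_iff, ← Nat.two_dvd_ne_zero]
  exact Nat.not_dvd_ordCompl Nat.prime_two (by omega)

theorem z_ker : proj G z ⟨z, S.ple S.zP⟩ = 1 := Equiv.ext fun y => Subtype.ext y.2

theorem two_le_t : 2 ≤ t ∧ z = w ^ 2 ^ (t - 1) := by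
  have ht1 : 1 ≤ t := by
    by_contra hc
    have : t = 0 := by omega
    have hw1 : w = 1 := orderOf_eq_one_iff.1 (by rw [S.ordw, this, pow_zero])
    have hz1 := S.zw
    rw [hw1, Subgroup.zpowers_one_eq_bot, Subgroup.mem_bot] at hz1
    exact S.z_ne hz1
  have hz : z = w ^ 2 ^ (t - 1) := by
    refine S.inv.hyp.D_invol_eq S.inv.ne S.inv.mem (Subgroup.pow_mem _ S.hw _) S.inv.order ?_
    rw [orderOf_pow' w (Nat.two_pow_pos _).ne', S.ordw, Nat.gcd_eq_right (pow_dvd_pow 2 (by omega)),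
      Nat.pow_div (by omega) (by norm_num), show t - (t - 1) = 1 by omega, pow_one]
  refine ⟨?_, hz⟩
  by_contra hc
  have ht : t = 1 := by omega
  have hwz : w = z := by rw [hz, ht]; simp
  have : S.wF = 1 := by
    rw [wF, ← S.z_ker]
    exact congrArg (proj G z) (Subtype.ext hwz)
  have h1 := S.sign_wF
  rw [this, map_one] at h1
  exact absurd h1 (by decide)

/-- The semiregular involution. -/
noncomputable def u (_ : Sys G z a b w g t P) : Perm Ω := g ^ (orderOf g / 2)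

theorem half_pos : 0 < orderOf g / 2 :=
  Nat.div_pos (Nat.le_of_dvd (orderOf_pos g) S.even_g) two_pos

theorem uP : S.u ∈ P := P.pow_mem S.gP _

theorem u_order : orderOf S.u = 2 := by
  rw [u, orderOf_pow' g S.half_pos.ne', Nat.gcd_eq_right (Nat.div_dvd_of_dvd S.even_g),
    Nat.div_div_self S.even_g (orderOf_pos g).ne']

theorem u_fpf (y : Ω) : S.u y ≠ y := by
  intro hy
  have := S.gsemi _ y hy
  have h := S.u_order
  rw [u, this, orderOf_one] at h
  omega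

theorem not_conj_u : ¬ Conj G z S.u := by
  rintro ⟨c, -, he⟩
  refine S.u_fpf (c a) ?_
  rw [← he, Perm.mul_apply, Perm.mul_apply, ← Perm.mul_apply c⁻¹ c, inv_mul_cancel, Perm.one_apply, S.za]

theorem u_commute : Commute S.u z := (mem_cz.1 (S.ple S.uP)).2

theorem u_mul_self : S.u * S.u = 1 := by rw [← sq, ← S.u_order, pow_orderOf_eq_one]

theorem u_inv : S.u⁻¹ = S.u := inv_eq_of_mul_eq_one_left S.u_mul_self

theorem fpf_on_F {h : Perm Ω} (hG : h ∈ G) (h2 : orderOf h = 2) (hc : Commute h z) (hne : h ≠ z) (y : Fx z) :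
    h y.1 ≠ y.1 := fun hy => hne (S.inv.eq_of_fix hG h2 hc hy)

theorem mul_self_of_order {x : Perm Ω} (hx : orderOf x = 2) : x * x = 1 := by
  rw [← sq, ← hx, pow_orderOf_eq_one]

theorem one_or_z {m : ℕ} (h : (w ^ m) ^ 2 = 1) : w ^ m = 1 ∨ w ^ m = z := by
  by_cases h1 : w ^ m = 1
  · exact Or.inl h1
  · exact Or.inr (S.inv.hyp.D_invol_eq S.inv.ne (Subgroup.pow_mem _ S.hw m) S.inv.mem
      (orderOf_eq_prime h h1) S.inv.order)

theorem u_conj_form {j : ℕ} : S.u * (S.u * w ^ j) = w ^ j := by rw [← mul_assoc, S.u_mul_self, one_mul]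

/-- Data for the degree `2 mod 4` case. -/
theorem caseTwo (hN : orderOf g = 2) :
    (∀ h ∈ P, orderOf h = 2 → h ≠ z → Conj G S.u h ∨ Conj G (S.u * z) h) ∧
      (Conj G S.u (S.u * z) ∨ ∀ p ∈ P, p * S.u = S.u * p) := by
  have hug : S.u = g := by rw [u, hN]; simp
  have hcommg : ∀ p ∈ P, ∃ i < 2, ∃ j : ℕ, p = S.u ^ i * w ^ j := fun p hp => by
    obtain ⟨i, hi, j, he⟩ := S.pdec p hp
    exact ⟨i, hN ▸ hi, j, by rw [hug]; exact he⟩
  obtain ⟨e, he⟩ : ∃ e : ℕ, S.u * w * S.u⁻¹ = w ^ e := by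
    obtain ⟨i, hi, j, he⟩ := hcommg _ (P.mul_mem (P.mul_mem S.uP S.wP) (P.inv_mem S.uP))
    interval_cases i
    · exact ⟨j, by rw [he, pow_zero, one_mul]⟩
    · exfalso
      rw [pow_one, mul_assoc, mul_right_inj, mul_inv_eq_iff_eq_mul] at he
      have h1 := congrArg (fun p : Perm Ω => p a) he
      simp only [Perm.mul_apply, S.wa] at h1
      have h2 : (w ^ j) (S.u a) = (w ^ j) a := h1.symm.trans
        (mem_st.1 (mem_st.1 (Subgroup.pow_mem _ S.hw j)).1).2.symm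
      exact S.u_fpf a ((w ^ j).injective h2)
  have hodd : Odd e := odd_exponent he (S.ordw ▸ dvd_pow_self 2 (by have := S.two_le_t.1; omega))
  have hsq : ∀ j : ℕ, (S.u * w ^ j) * (S.u * w ^ j) = w ^ (e * j + j) := by
    intro j
    rw [pow_add, pow_mul, ← he, ← conj_pow', S.u_inv]
    group
  have hwu : ∀ i : ℕ, w ^ i * S.u * (w ^ i)⁻¹ = S.u * w ^ ((e : ℤ) * i - i) := by
    intro i
    have h1 : S.u * w ^ i * S.u⁻¹ = w ^ (e * i) := by rw [pow_mul, ← he, conj_pow']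
    rw [S.u_inv] at h1
    rw [zpow_sub, zpow_natCast, show ((e : ℤ) * i) = ((e * i : ℕ) : ℤ) by push_cast; rfl, zpow_natCast, ← h1,
      ← mul_assoc, ← mul_assoc, ← mul_assoc, S.u_mul_self, one_mul]
  have hall : ∀ h ∈ P, orderOf h = 2 → h ≠ z → ∃ j : ℕ, h = S.u * w ^ (2 * j) := by
    intro h hh h2 hne
    obtain ⟨i, hi, j, rfl⟩ := hcommg h hh
    have hf := S.fpf_on_F (S.pG hh) h2 (mem_cz.1 (S.ple hh)).2 hne
    interval_cases i
    · exfalso
      refine hf ⟨a, S.za⟩ ?_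
      show (S.u ^ 0 * w ^ j) a = a
      rw [pow_zero, one_mul]
      exact (mem_st.1 (mem_st.1 (Subgroup.pow_mem _ S.hw j)).1).2
    rw [pow_one] at h2 hf hne hh ⊢
    have hproj := S.proj_form (i := 1) (j := j) (S.ple hh) (by rw [hug, pow_one])
    have hs : Perm.sign (proj G z ⟨S.u * w ^ j, S.ple hh⟩) = -1 := by
      have hord : orderOf (proj G z ⟨S.u * w ^ j, S.ple hh⟩) = 2 := by
        refine orderOf_eq_prime ?_ ?_
        · rw [← map_pow, show (⟨S.u * w ^ j, S.ple hh⟩ : cz G z) ^ 2 = 1 from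
            Subtype.ext (by rw [SubmonoidClass.coe_pow, ← h2, pow_orderOf_eq_one]; rfl), map_one]
        · intro h1
          exact hf ⟨a, S.za⟩ (proj_one_apply h1 ⟨a, S.za⟩)
      have hsupp : (proj G z ⟨S.u * w ^ j, S.ple hh⟩).support = Finset.univ :=
        Finset.eq_univ_iff_forall.2 fun y => Perm.mem_support.2 fun hy => hf y (congrArg Subtype.val hy)
      rw [Perm.sign_of_pow_two_eq_one (by rw [← hord, pow_orderOf_eq_one]), Perm.card_fixedPoints,
        Perm.sum_cycleType, hsupp, Finset.card_univ, Nat.sub_self, Nat.sub_zero, ← Nat.card_eq_fintype_card]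
      refine Odd.neg_one_pow ?_
      rw [Nat.odd_iff, ← Nat.two_dvd_ne_zero]
      have hpos : Nat.card (Fx z) ≠ 0 := by have := S.good.four; omega
      have := Nat.not_dvd_ordCompl Nat.prime_two hpos
      have h2' : 2 ^ (Nat.card (Fx z)).factorization 2 = 2 := by rw [← twoPart, ← S.ordg, hN]
      rwa [h2'] at this
    rw [hproj, map_mul, map_pow, map_pow, S.sign_gF, S.sign_wF, pow_one] at hs
    rcases Nat.even_or_odd j with ⟨j', rfl⟩ | hjo
    · exact ⟨j', by rw [two_mul]⟩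
    · rw [hjo.neg_one_pow] at hs
      exact absurd hs (by decide)
  obtain ⟨e', he'⟩ := hodd
  rcases Nat.even_or_odd e' with hev | hod
  · -- exponent 1 mod 4
    obtain ⟨c, hc⟩ := hev
    have key : ∀ m : ℕ, (S.u * w ^ m) * (S.u * w ^ m) = 1 → w ^ m = 1 ∨ w ^ m = z := by
      intro m hm
      rw [hsq, ← orderOf_dvd_iff_pow_eq_one, S.ordw, show e * m + m = (2 * c + 1) * (2 * m) by rw [he', hc]; ring] at hm
      rw [show (2 * c + 1) * (2 * m) = (2 * m) * (2 * c + 1) by ring] at hm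
      have := (Nat.Coprime.pow_left t (show Nat.Coprime 2 (2 * c + 1) by simp)).dvd_of_dvd_mul_right hm
      refine S.one_or_z ?_
      rw [← pow_mul, ← orderOf_dvd_iff_pow_eq_one, S.ordw, mul_comm]
      exact this
    refine ⟨fun h hh h2 hne => ?_, ?_⟩
    · obtain ⟨j, rfl⟩ := hall h hh h2 hne
      rcases key (2 * j) (S.mul_self_of_order h2) with h1 | h1
      · exact Or.inl (by rw [h1, mul_one]; exact Conj.refl _)
      · exact Or.inr (by rw [h1]; exact Conj.refl _)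
    · have h1 := hwu 1
      rw [pow_one, Nat.cast_one, mul_one, show ((e : ℤ) - 1) = ((2 * e' : ℕ) : ℤ) by rw [he']; push_cast; ring,
        zpow_natCast] at h1
      have h2 : (S.u * w ^ (2 * e')) * (S.u * w ^ (2 * e')) = 1 := by
        rw [← h1, show w * S.u * w⁻¹ * (w * S.u * w⁻¹) = w * (S.u * S.u) * w⁻¹ by group, S.u_mul_self]
        group
      rcases key _ h2 with h3 | h3
      · refine Or.inr fun p hp => ?_
        rw [h3, mul_one, mul_inv_eq_iff_eq_mul] at h1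
        obtain ⟨i, hi, j, rfl⟩ := hcommg p hp
        exact (((Commute.refl S.u).pow_left i).mul_left ((show Commute w S.u from h1).pow_left j)).eq
      · exact Or.inl ⟨w, S.pG S.wP, by rw [h1, h3]⟩
  · -- exponent 3 mod 4
    obtain ⟨c, hc⟩ := hod
    have hcov : ∀ j : ℕ, Conj G S.u (S.u * w ^ (2 * j)) := by
      intro j
      obtain ⟨p, q, hpq⟩ : IsCoprime (e' : ℤ) ((2 ^ t : ℕ) : ℤ) := by
        rw [Nat.isCoprime_iff_coprime]
        exact Nat.Coprime.pow_right t (by rw [hc]; simp)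
      refine ⟨w ^ ((p * j) % (2 ^ t : ℕ)).toNat, G.pow_mem (S.pG S.wP) _, ?_⟩
      rw [hwu]
      congr 1
      rw [← zpow_natCast w (2 * j), ← mul_inv_eq_one, ← zpow_sub, ← orderOf_dvd_iff_zpow_eq_one, S.ordw,
        Int.toNat_of_nonneg (Int.emod_nonneg _ (by positivity))]
      have h1 := Int.emod_emod_of_dvd (p * j) (dvd_refl ((2 ^ t : ℕ) : ℤ))
      have h2 := Int.dvd_self_sub_emod (x := p * j) (m := ((2 ^ t : ℕ) : ℤ))
      obtain ⟨r, hr⟩ := h2
      refine ⟨-2 * (e' : ℤ) * r - 2 * q * j, ?_⟩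
      have hr' : (p * j) % ((2 ^ t : ℕ) : ℤ) = p * j - ((2 ^ t : ℕ) : ℤ) * r := by linarith
      rw [hr', he']
      push_cast at hpq ⊢
      linear_combination (2 * (j : ℤ)) * hpq
    refine ⟨fun h hh h2 hne => ?_, Or.inl ?_⟩
    · obtain ⟨j, rfl⟩ := hall h hh h2 hne
      exact Or.inl (hcov j)
    · obtain ⟨ht, hz⟩ := S.two_le_t
      nth_rw 3 [hz]
      rw [show 2 ^ (t - 1) = 2 * 2 ^ (t - 2) by rw [← pow_succ', show t - 2 + 1 = t - 1 by omega]]
      exact hcov _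

section Four

theorem four_dvd (h4 : 4 ∣ Nat.card (Fx z)) : 4 ∣ orderOf g ∧ orderOf S.wF = 2 := by
  have hpos : Nat.card (Fx z) ≠ 0 := by have := S.good.four; omega
  have h4' := S.good.four
  constructor
  · rw [S.ordg, twoPart, show (4 : ℕ) = 2 ^ 2 from rfl]
    exact pow_dvd_pow 2 ((Nat.Prime.pow_dvd_iff_le_factorization Nat.prime_two hpos).1 h4)
  · obtain ⟨q, hq⟩ := h4
    rw [S.ord_wF, show Nat.card (Fx z) - 2 = 2 * (2 * q - 1) by omega,
      twoPart_mul two_ne_zero (by omega), twoPart_of_odd (n := 2 * q - 1) ⟨q - 1, by omega⟩, mul_one]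
    exact twoPart_pow 1

theorem ker_even (h4 : 4 ∣ Nat.card (Fx z)) {p : Perm Ω} (hp : p ∈ P)
    (hk : proj G z ⟨p, S.ple hp⟩ = 1) : ∃ c : ℕ, p = w ^ (2 * c) := by
  obtain ⟨m, rfl⟩ := S.stP p hp (proj_one_apply hk ⟨a, S.za⟩)
  have h1 : S.wF ^ m = 1 := by
    rw [wF, ← map_pow]
    exact hk
  obtain ⟨c, rfl⟩ := (S.four_dvd h4).2 ▸ orderOf_dvd_of_pow_eq_one h1
  exact ⟨c, rfl⟩

theorem wsq_ker (h4 : 4 ∣ Nat.card (Fx z)) : proj G z ⟨w, S.ple S.wP⟩ ^ 2 = 1 := by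
  rw [← (S.four_dvd h4).2]
  exact pow_orderOf_eq_one _

theorem conj_wsq (h4 : 4 ∣ Nat.card (Fx z)) {p : Perm Ω} (hp : p ∈ P) :
    ∃ e : ℕ, Odd e ∧ p * w ^ 2 * p⁻¹ = (w ^ 2) ^ e := by
  have hmem := P.mul_mem (P.mul_mem hp (P.pow_mem S.wP 2)) (P.inv_mem hp)
  obtain ⟨c, hc⟩ := S.ker_even h4 hmem (by
    rw [show (⟨p * w ^ 2 * p⁻¹, S.ple hmem⟩ : cz G z) = ⟨p, S.ple hp⟩ * ⟨w, S.ple S.wP⟩ ^ 2 * ⟨p, S.ple hp⟩⁻¹
      from Subtype.ext (by simp), map_mul, map_mul, map_pow, S.wsq_ker h4, mul_one, ← map_mul, mul_inv_cancel,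
      map_one])
  rw [pow_mul] at hc
  refine ⟨c, odd_exponent hc ?_, hc⟩
  rw [orderOf_pow' w two_ne_zero, S.ordw, Nat.gcd_eq_right (dvd_pow_self 2 (by have := S.two_le_t.1; omega)),
    show 2 ^ t / 2 = 2 ^ (t - 1) by rw [← Nat.pow_div (by have := S.two_le_t.1; omega) two_pos, pow_one]]
  exact dvd_pow_self 2 (by have := S.two_le_t.1; omega)

theorem u_even (h4 : 4 ∣ Nat.card (Fx z)) {c : ℕ} (h : (S.u * w ^ (2 * c)) * (S.u * w ^ (2 * c)) = 1) :
    w ^ (2 * c) = 1 ∨ w ^ (2 * c) = z := by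
  obtain ⟨q, hq⟩ := (S.four_dvd h4).1
  set k := g ^ q with hk
  have huk : S.u = k * k := by
    rw [u, hk, ← pow_add]
    congr 1
    omega
  obtain ⟨e, ⟨e', he'⟩, he⟩ := S.conj_wsq h4 (P.pow_mem S.gP q)
  have h1 : S.u * w ^ (2 * c) * S.u⁻¹ = ((w ^ 2) ^ c) ^ (e * e) := by
    have hi : ∀ i : ℕ, k * (w ^ 2) ^ i * k⁻¹ = (w ^ 2) ^ (e * i) := fun i => by
      rw [conj_pow', he, ← pow_mul]
    rw [← pow_mul, pow_mul w 2 c, huk,
      show k * k * (w ^ 2) ^ c * (k * k)⁻¹ = k * (k * (w ^ 2) ^ c * k⁻¹) * k⁻¹ by group, hi, hi]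
    congr 1
    ring
  rw [S.u_inv] at h1
  have h2 : w ^ (2 * c * (e * e + 1)) = 1 := by
    rw [mul_add, mul_one, pow_add, show w ^ (2 * c * (e * e)) = ((w ^ 2) ^ c) ^ (e * e) by rw [← pow_mul, ← pow_mul, Nat.mul_assoc],
      ← h1, ← h]
    group
  rw [← orderOf_dvd_iff_pow_eq_one, S.ordw, show 2 * c * (e * e + 1) = (2 * (e' * e' + e') + 1) * (2 * (2 * c)) by
    rw [he']; ring] at h2
  have h3 := (Nat.Coprime.pow_left t (show Nat.Coprime 2 (2 * (e' * e' + e') + 1) by simp)).dvd_of_dvd_mul_left h2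
  refine S.one_or_z ?_
  rw [← pow_mul, ← orderOf_dvd_iff_pow_eq_one, S.ordw, mul_comm]
  exact h3

theorem proj_u : proj G z ⟨S.u, S.ple S.uP⟩ = S.gF ^ (orderOf g / 2) := by
  rw [S.proj_form (i := orderOf g / 2) (j := 0) (S.ple S.uP) (by rw [pow_zero, mul_one]; rfl), pow_zero, mul_one]

theorem four_conj (h4 : 4 ∣ Nat.card (Fx z)) {h : Perm Ω} (hh : h ∈ P) (h2 : orderOf h = 2) (hne : h ≠ z) :
    Conj G S.u h ∨ Conj G (S.u * z) h := by
  have hf := S.fpf_on_F (S.pG hh) h2 (mem_cz.1 (S.ple hh)).2 hne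
  have hh2 : proj G z ⟨h, S.ple hh⟩ * proj G z ⟨h, S.ple hh⟩ = 1 := by
    rw [← map_mul, show (⟨h, S.ple hh⟩ : cz G z) * ⟨h, S.ple hh⟩ = 1 from
      Subtype.ext (by show h * h = 1; rw [← sq, ← h2, pow_orderOf_eq_one]), map_one]
  have hu2 : proj G z ⟨S.u, S.ple S.uP⟩ * proj G z ⟨S.u, S.ple S.uP⟩ = 1 := by
    rw [← map_mul, show (⟨S.u, S.ple S.uP⟩ : cz G z) * ⟨S.u, S.ple S.uP⟩ = 1 from
      Subtype.ext S.u_mul_self, map_one]
  obtain ⟨x, ⟨⟨c, hc⟩, rfl⟩, hx⟩ := S.good.fpf_conj S.inv.img_hyp h4 ⟨_, rfl⟩ ⟨_, rfl⟩ hh2 hu2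
    (fun y hy => hf y (congrArg Subtype.val hy)) (fun y hy => S.u_fpf y.1 (congrArg Subtype.val hy))
  set h' := c * h * c⁻¹ with hh'
  have hcG : c ∈ G := (mem_cz.1 hc).1
  have hh'c : h' ∈ cz G z := (cz G z).mul_mem ((cz G z).mul_mem hc (S.ple hh)) ((cz G z).inv_mem hc)
  have hh'2 : h' * h' = 1 := by
    rw [hh', show c * h * c⁻¹ * (c * h * c⁻¹) = c * (h * h) * c⁻¹ by group, ← sq, ← h2, pow_orderOf_eq_one]
    group
  suffices hs : Conj G S.u h' ∨ Conj G (S.u * z) h' by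
    rcases hs with hs | hs
    · exact Or.inl (hs.trans (Conj.symm ⟨c, hcG, hh'.symm⟩))
    · exact Or.inr (hs.trans (Conj.symm ⟨c, hcG, hh'.symm⟩))
  -- the kernel part
  set k := S.u * h' with hk
  have hkc : k ∈ cz G z := (cz G z).mul_mem (S.ple S.uP) hh'c
  have hkp : proj G z ⟨k, hkc⟩ = 1 := by
    rw [show (⟨k, hkc⟩ : cz G z) = ⟨S.u, S.ple S.uP⟩ * (⟨c, hc⟩ * ⟨h, S.ple hh⟩ * ⟨c, hc⟩⁻¹) from Subtype.ext rfl,
      map_mul, map_mul, map_mul, map_inv, hx, hu2]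
  have hkD : k ∈ st (st G a) b :=
    mem_st.2 ⟨mem_st.2 ⟨(mem_cz.1 hkc).1, proj_one_apply hkp ⟨a, S.za⟩⟩,
      proj_one_apply hkp ⟨b, S.zb⟩⟩
  have hinv : S.u * k * S.u = k⁻¹ := by
    rw [hk, mul_inv_rev, S.u_inv, ← mul_assoc, S.u_mul_self, one_mul, inv_eq_of_mul_eq_one_left hh'2]
  set m0 := orderOf k / 2 ^ (orderOf k).factorization 2 with hm0
  have hm0odd : Odd m0 := by
    rw [Nat.odd_iff, ← Nat.two_dvd_ne_zero]
    exact Nat.not_dvd_ordCompl Nat.prime_two (orderOf_pos k).ne'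
  obtain ⟨j, hj⟩ := hm0odd
  set y := k ^ (2 * j + 1) with hy
  have hyord : y ^ (2 ^ (orderOf k).factorization 2) = 1 := by
    rw [hy, ← pow_mul, ← hj, hm0, mul_comm, Nat.ordProj_mul_ordCompl_eq_self, pow_orderOf_eq_one]
  have hycz : y ∈ cz G z := (cz G z).pow_mem hkc _
  have hyD : y ∈ st (st G a) b := Subgroup.pow_mem _ hkD _
  have hyP : y ∈ P := by
    obtain ⟨T, hwT, hT, hTp, hTc⟩ :=
      exists_two_subgroup (pGroup_zpowers (g := w) (k := t) (by rw [← S.ordw, pow_orderOf_eq_one]))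
        (Subgroup.zpowers_le.2 S.hw)
    obtain ⟨d, hd, hconj⟩ := exists_conj_into (pGroup_zpowers hyord) (Subgroup.zpowers_le.2 hyD) hTp hT hTc
    have h5 := hconj y (Subgroup.mem_zpowers y)
    rw [S.inv.hyp.D_comm S.inv.ne hd hyD, mul_inv_cancel_right] at h5
    have hTP : T = Subgroup.zpowers w := by
      refine (Subgroup.eq_of_le_of_card_ge hwT ?_).symm
      rw [Nat.card_zpowers, hTc, ← S.inv.hyp.twoPart_st S.inv.ne]
      obtain ⟨Q, hwQ, hQ, hQp, hQc⟩ := exists_two_subgroup (H := st (cz G z) a)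
        (pGroup_zpowers (g := w) (k := t) (by rw [← S.ordw, pow_orderOf_eq_one]))
        (Subgroup.zpowers_le.2 (mem_st.2 ⟨S.ple S.wP, S.wa⟩))
      obtain ⟨d', hd', hc'⟩ := exists_conj_into hQp (hQ.trans (st_le _ _)) S.pgrp S.ple S.pcard
      have hsub : st P a = Subgroup.zpowers w := by
        refine le_antisymm (fun p hp => ?_) (Subgroup.zpowers_le.2 (mem_st.2 ⟨S.wP, S.wa⟩))
        obtain ⟨m, rfl⟩ := S.stP p (mem_st.1 hp).1 (mem_st.1 hp).2
        exact Subgroup.pow_mem _ (Subgroup.mem_zpowers w) m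
      have hPc := S.pcard
      have hdec : Nat.card P ≤ orderOf g * Nat.card (Subgroup.zpowers w) := card_le_of_decomp fun p hp => by
        obtain ⟨i, -, m, he⟩ := S.pdec p hp
        exact ⟨i, w ^ m, Subgroup.pow_mem _ (Subgroup.mem_zpowers w) m, he⟩
      rw [hPc, Nat.card_zpowers, S.ordg, card_cz,
        S.inv.img_hyp.card_eq ⟨a, S.za⟩, ← mul_assoc, mul_comm (Nat.card _) (Nat.card (Fx z)), mul_assoc,
        ← card_pre (st_le _ _), ← st_cz, twoPart_mul (by have := S.good.four; omega) Nat.card_pos.ne',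
        Nat.mul_le_mul_left_iff (twoPart_pos _), S.inv.twoPart_st_cz ⟨a, S.za⟩] at hdec
      exact hdec
    rw [hTP] at h5
    exact Subgroup.zpowers_le.2 S.wP h5
  obtain ⟨c', hc'⟩ := S.ker_even h4 hyP (by
    rw [show (⟨y, S.ple hyP⟩ : cz G z) = (⟨k, hkc⟩ : cz G z) ^ (2 * j + 1) from Subtype.ext rfl, map_pow, hkp, one_pow])
  have hconj : (k ^ j)⁻¹ * h' * k ^ j = S.u * y := by
    have h1 : S.u * (k ^ j) * S.u = (k ^ j)⁻¹ := by
      have := conj_pow' S.u k j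
      rw [S.u_inv, hinv, inv_pow] at this
      exact this
    calc (k ^ j)⁻¹ * h' * k ^ j = S.u * k ^ j * S.u * (S.u * k) * k ^ j := by
          rw [h1, hk, ← mul_assoc S.u S.u, S.u_mul_self, one_mul]
      _ = S.u * (k ^ j * (S.u * S.u) * k * k ^ j) := by group
      _ = S.u * y := by rw [S.u_mul_self, mul_one, ← pow_succ, ← pow_add, hy]; congr 2; omega
  have hkG : k ^ j ∈ G := G.pow_mem (mem_cz.1 hkc).1 j
  have hc2 : Conj G (S.u * y) h' := ⟨k ^ j, hkG, by rw [← hconj]; group⟩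
  rcases S.u_even h4 (c := c') (by
      rw [← hc', ← hconj, show (k ^ j)⁻¹ * h' * k ^ j * ((k ^ j)⁻¹ * h' * k ^ j) = (k ^ j)⁻¹ * (h' * h') * k ^ j by group,
        hh'2]
      group) with h6 | h6
  · rw [hc', h6, mul_one] at hc2
    exact Or.inl hc2
  · rw [hc', h6] at hc2
    exact Or.inr hc2

theorem exists_v (h4 : 4 ∣ Nat.card (Fx z)) :
    ∃ v : ℕ, Odd v ∧ S.wF * S.gF * S.wF⁻¹ = S.gF ^ v := by
  obtain ⟨i, hi, j, he⟩ := S.pdec (w * g) (P.mul_mem S.wP S.gP)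
  have hp := S.proj_form (S.ple (P.mul_mem S.wP S.gP)) he
  have hp' : S.wF * S.gF = S.gF ^ i * S.wF ^ j := by
    rw [← hp, wF, gF, ← map_mul]
    rfl
  have hj : Odd j := by
    by_contra hc
    obtain ⟨c, rfl⟩ := Nat.not_odd_iff_even.1 hc
    rw [← two_mul, pow_mul, show S.wF ^ 2 = 1 from S.wsq_ker h4, one_pow, mul_one] at hp'
    have h1 : S.wF = S.gF ^ (i + (orderOf S.gF - 1)) := by
      rw [pow_add, ← hp', mul_assoc, ← pow_succ', Nat.sub_add_cancel (orderOf_pos _), pow_orderOf_eq_one, mul_one]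
    have h2 := S.gF_semi _ ⟨a, S.za⟩ (by rw [← h1]; exact Subtype.ext S.wa)
    rw [← h1] at h2
    have := S.sign_wF
    rw [h2, map_one] at this
    exact absurd this (by decide)
  obtain ⟨c, rfl⟩ := hj
  rw [pow_succ, pow_mul, show S.wF ^ 2 = 1 from S.wsq_ker h4, one_pow, one_mul] at hp'
  have he' : S.wF * S.gF * S.wF⁻¹ = S.gF ^ i := by rw [hp', mul_inv_cancel_right]
  exact ⟨i, odd_exponent he' (S.ord_gF ▸ S.even_g), he'⟩

theorem dihedral (h4 : 4 ∣ Nat.card (Fx z)) {v : ℕ} (hv : S.wF * S.gF * S.wF⁻¹ = S.gF ^ v) :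
    orderOf g ∣ v + 1 := by
  by_contra hnd
  obtain ⟨q, hq⟩ := (S.four_dvd h4).1
  have hw2 : S.wF ^ 2 = 1 := S.wsq_ker h4
  refine S.good.not_unique_even_invol S.inv.img_hyp S.push_full.1 (pGroup_push S.pgrp S.ple) S.push_full.2
    (u := S.gF ^ (orderOf g / 2)) ?_ ?_ ?_ ?_
  · exact Subgroup.pow_mem (push G z P) ⟨⟨g, S.ple S.gP⟩, S.gP, rfl⟩ _
  · rw [orderOf_pow' _ S.half_pos.ne', S.ord_gF, Nat.gcd_eq_right (Nat.div_dvd_of_dvd S.even_g),
      Nat.div_div_self S.even_g (orderOf_pos g).ne']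
  · rw [map_pow, S.sign_gF]
    exact Even.neg_one_pow ⟨q, by omega⟩
  · intro x hx hx2 hxs
    obtain ⟨⟨p, hp⟩, hpP, rfl⟩ := hx
    obtain ⟨i, hi, j, he⟩ := S.pdec p hpP
    rw [S.proj_form hp he] at hx2 hxs ⊢
    have hwj : S.wF ^ j = S.wF ^ (j % 2) := by
      conv_lhs => rw [← Nat.mod_add_div j 2, pow_add, pow_mul, hw2, one_pow, mul_one]
    rw [hwj] at hx2 hxs ⊢
    rw [map_mul, map_pow, map_pow, S.sign_gF, S.sign_wF, ← pow_add, neg_one_pow_eq_one_iff_even (by decide)] at hxs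
    rcases Nat.mod_two_eq_zero_or_one j with hj | hj <;> rw [hj] at hx2 hxs ⊢
    · rw [pow_zero, mul_one] at hx2 ⊢
      have hd : orderOf g ∣ 2 * i := by
        rw [← S.ord_gF, orderOf_dvd_iff_pow_eq_one, mul_comm, pow_mul, ← hx2, pow_orderOf_eq_one]
      have hi0 : i ≠ 0 := fun h0 => by rw [h0, pow_zero, orderOf_one] at hx2; omega
      obtain ⟨r, hr⟩ := hd
      rcases Nat.lt_or_ge r 2 with hr2 | hr2
      · interval_cases r
        · omega
        · congr 1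
          omega
      · have : orderOf g * 2 ≤ orderOf g * r := Nat.mul_le_mul_left _ hr2
        omega
    · exfalso
      apply hnd
      rw [pow_one] at hx2
      have h1 : (S.gF ^ i * S.wF) ^ 2 = S.gF ^ (i + v * i) := by
        rw [sq, pow_add, pow_mul, ← hv, ← conj_pow', inv_eq_of_mul_eq_one_left (by rw [← sq, hw2])]
        group
      rw [← hx2, pow_orderOf_eq_one, eq_comm, ← orderOf_dvd_iff_pow_eq_one, S.ord_gF,
        show i + v * i = (v + 1) * i by ring] at h1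
      have hio : Odd i := by
        rw [Nat.even_add] at hxs
        rw [← Nat.not_even_iff_odd]
        intro hie
        exact absurd (hxs.1 hie) (by decide)
      obtain ⟨k, -, hk⟩ := (Nat.dvd_prime_pow Nat.prime_two).1 (S.ordg ▸ dvd_refl (orderOf g) : orderOf g ∣ 2 ^ (Nat.card (Fx z)).factorization 2)
      rw [hk] at h1 ⊢
      exact (Nat.Coprime.pow_left k ((Nat.coprime_two_left).2 hio)).dvd_of_dvd_mul_right h1

theorem four_central (h4 : 4 ∣ Nat.card (Fx z)) :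
    Conj G S.u (S.u * z) ∨ ∀ p ∈ P, p * S.u = S.u * p := by
  obtain ⟨v, ⟨v', hv'⟩, hv⟩ := S.exists_v h4
  have hmem := P.mul_mem S.uP (P.mul_mem (P.mul_mem S.wP S.uP) (P.inv_mem S.wP))
  obtain ⟨c, hc⟩ := S.ker_even h4 hmem (by
    rw [show (⟨S.u * (w * S.u * w⁻¹), S.ple hmem⟩ : cz G z) =
      ⟨S.u, S.ple S.uP⟩ * (⟨w, S.ple S.wP⟩ * ⟨S.u, S.ple S.uP⟩ * ⟨w, S.ple S.wP⟩⁻¹) from Subtype.ext rfl,
      map_mul, map_mul, map_mul, map_inv, S.proj_u, conj_pow', show proj G z ⟨w, S.ple S.wP⟩ = S.wF from rfl, hv,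
      ← pow_mul, ← pow_add, ← orderOf_dvd_iff_pow_eq_one, S.ord_gF,
      show orderOf g / 2 + v * (orderOf g / 2) = (v' + 1) * (2 * (orderOf g / 2)) by rw [hv']; ring,
      Nat.mul_div_cancel' S.even_g]
    exact Dvd.intro_left _ rfl)
  have he : w * S.u * w⁻¹ = S.u * w ^ (2 * c) := by
    rw [← hc, ← mul_assoc S.u S.u, S.u_mul_self, one_mul]
  rcases S.u_even h4 (c := c) (by
      rw [← he, show w * S.u * w⁻¹ * (w * S.u * w⁻¹) = w * (S.u * S.u) * w⁻¹ by group, S.u_mul_self]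
      group) with h1 | h1
  · refine Or.inr fun p hp => ?_
    rw [h1, mul_one, mul_inv_eq_iff_eq_mul] at he
    obtain ⟨i, -, j, rfl⟩ := S.pdec p hp
    exact ((((Commute.refl g).pow_right _).pow_left i).mul_left ((show Commute w S.u from he).pow_left j)).eq
  · exact Or.inl ⟨w, S.pG S.wP, by rw [he, h1]⟩

end Four

theorem uz_not_conj (hcase : (∀ p ∈ P, p * S.u = S.u * p)) : ¬ Conj G z (S.u * z) := by
  rintro ⟨x, hx, hxe⟩
  set s := S.u * z with hs
  have hC : ∀ q, q ∈ cz G z → x * q * x⁻¹ ∈ cz G s := by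
    intro q hq
    obtain ⟨hqG, hqz⟩ := mem_cz.1 hq
    refine mem_cz.2 ⟨G.mul_mem (G.mul_mem hx hqG) (G.inv_mem hx), ?_⟩
    show x * q * x⁻¹ * s = s * (x * q * x⁻¹)
    rw [← hxe, show x * q * x⁻¹ * (x * z * x⁻¹) = x * (q * z) * x⁻¹ by group, hqz.eq]
    group
  have hcard : Nat.card (cz G s) = Nat.card (cz G z) := by
    refine (Nat.card_congr (α := cz G z) (β := cz G s)
      { toFun := fun q => ⟨x * q.1 * x⁻¹, hC q q.2⟩
        invFun := fun q => ⟨x⁻¹ * q.1 * x, by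
          obtain ⟨hqG, hqs⟩ := mem_cz.1 q.2
          refine mem_cz.2 ⟨G.mul_mem (G.mul_mem (G.inv_mem hx) hqG) hx, ?_⟩
          show x⁻¹ * q.1 * x * z = z * (x⁻¹ * q.1 * x)
          have h1 : z = x⁻¹ * s * x := by rw [← hxe]; group
          rw [h1, show x⁻¹ * q.1 * x * (x⁻¹ * s * x) = x⁻¹ * (q.1 * s) * x by group, hqs.eq]
          group⟩
        left_inv := fun q => Subtype.ext (by group)
        right_inv := fun q => Subtype.ext (by group) }).symm
  have hPs : P ≤ cz G s := fun p hp => mem_cz.2 ⟨S.pG hp,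
    (show Commute p S.u from hcase p hp).mul_right (mem_cz.1 (S.ple hp)).2⟩
  have hxw : (x * w * x⁻¹) ^ 2 ^ t = 1 := by
    rw [← conj_pow', ← S.ordw, pow_orderOf_eq_one]
    group
  obtain ⟨c, hc, hconj⟩ := exists_conj_into (pGroup_zpowers hxw) (Subgroup.zpowers_le.2 (hC w (S.ple S.wP)))
    S.pgrp hPs (by rw [hcard]; exact S.pcard)
  set v := c * (x * w * x⁻¹) * c⁻¹ with hv
  have hvP : v ∈ P := hconj _ (Subgroup.mem_zpowers _)
  obtain ⟨ht, hz⟩ := S.two_le_t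
  have hvpow : v ^ 2 ^ (t - 1) = s := by
    rw [hv, ← conj_pow', ← conj_pow', ← hz, hxe, (mem_cz.1 hc).2.eq, mul_inv_cancel_right]
  have hsa : s a ≠ a := by
    rw [hs, Perm.mul_apply, S.za]
    exact S.u_fpf a
  have hsplit : (2 : ℕ) ^ (t - 1) = 2 * 2 ^ (t - 2) := by rw [← pow_succ', show t - 2 + 1 = t - 1 by omega]
  by_cases h4 : 4 ∣ Nat.card (Fx z)
  · obtain ⟨vv, -, hvv⟩ := S.exists_v h4
    have hd := S.dihedral h4 hvv
    obtain ⟨i, -, j, he⟩ := S.pdec v hvP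
    rcases Nat.even_or_odd j with ⟨c', rfl⟩ | ⟨c', rfl⟩
    · -- inside the index two subgroup
      have key : ∀ l : ℕ, ∃ m : ℕ, v ^ 2 ^ l = g ^ (i * 2 ^ l) * w ^ (2 * 2 ^ l * m) := by
        intro l
        induction l with
        | zero => exact ⟨c', by rw [pow_zero, pow_one, mul_one, mul_one, he, two_mul]⟩
        | succ l ih =>
          obtain ⟨m, hm⟩ := ih
          obtain ⟨e, ⟨e', he'⟩, hee⟩ := S.conj_wsq h4 (P.inv_mem (P.pow_mem S.gP (i * 2 ^ l)))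
          rw [inv_inv] at hee
          refine ⟨m * (e' + 1), ?_⟩
          have h1 : (g ^ (i * 2 ^ l))⁻¹ * w ^ (2 * 2 ^ l * m) * g ^ (i * 2 ^ l) = w ^ (2 * 2 ^ l * m * e) := by
            rw [show 2 * 2 ^ l * m = 2 * (2 ^ l * m) by ring, pow_mul w]
            have := conj_pow' (g ^ (i * 2 ^ l))⁻¹ (w ^ 2) (2 ^ l * m)
            rw [inv_inv, hee] at this
            rw [this, ← pow_mul, ← pow_mul]
            congr 1
            ring
          rw [pow_succ, pow_mul, hm, sq,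
            show i * (2 ^ l * 2) = i * 2 ^ l + i * 2 ^ l by ring, pow_add,
            show 2 * (2 ^ l * 2) * (m * (e' + 1)) = 2 * 2 ^ l * m * e + 2 * 2 ^ l * m by rw [he']; ring, pow_add w,
            ← h1]
          group
      obtain ⟨m, hm⟩ := key (t - 1)
      rw [hvpow, show 2 * 2 ^ (t - 1) = 2 ^ t by rw [← pow_succ', show t - 1 + 1 = t by omega],
        pow_mul w, ← S.ordw, pow_orderOf_eq_one, one_pow, mul_one] at hm
      have hzg : z = g ^ (orderOf g / 2 + i * 2 ^ (t - 1)) := by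
        rw [pow_add, ← hm, hs, show g ^ (orderOf g / 2) = S.u from rfl, ← mul_assoc, S.u_mul_self, one_mul]
      exact S.z_ne (hzg.trans (S.gsemi _ a (by rw [← hzg]; exact S.za)))
    · -- outside
      have hv2 : proj G z ⟨v, S.ple hvP⟩ ^ 2 = 1 := by
        rw [S.proj_form (S.ple hvP) he, show S.wF ^ (2 * c' + 1) = S.wF by
          rw [pow_succ, pow_mul, show S.wF ^ 2 = 1 from S.wsq_ker h4, one_pow, one_mul], sq]
        have hwinv : S.wF⁻¹ = S.wF := inv_eq_of_mul_eq_one_left (by rw [← sq]; exact S.wsq_ker h4)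
        calc S.gF ^ i * S.wF * (S.gF ^ i * S.wF) = S.gF ^ i * (S.wF * S.gF ^ i * S.wF⁻¹) := by rw [hwinv]; group
          _ = 1 := by
            rw [conj_pow', hvv, ← pow_mul, ← pow_add, ← orderOf_dvd_iff_pow_eq_one, S.ord_gF,
              show i + vv * i = (vv + 1) * i by ring]
            exact hd.mul_right i
      have h1 := congrArg (fun q : Perm (Fx z) => q ^ 2 ^ (t - 2)) hv2
      simp only [one_pow, ← pow_mul, ← hsplit] at h1
      rw [← map_pow] at h1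
      have h2 := congrArg Subtype.val (DFunLike.congr_fun h1 ⟨a, S.za⟩)
      refine hsa ?_
      rw [← hvpow]
      exact h2
  · have hN : orderOf g = 2 := by
      obtain ⟨k, hk⟩ := S.inv.even_fx
      have h4' := S.good.four
      rw [S.ordg, show Nat.card (Fx z) = 2 * k by omega, twoPart_mul two_ne_zero (by omega),
        twoPart_of_odd (n := k) (Nat.not_even_iff_odd.1 fun ⟨r, hr⟩ => h4 ⟨r, by omega⟩), mul_one]
      exact twoPart_pow 1
    obtain ⟨i, hi, j, he⟩ := S.pdec v hvP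
    rw [hN] at hi
    have hvv : v * v = w ^ (2 * j) := by
      interval_cases i
      · rw [he, pow_zero, one_mul, ← pow_add, two_mul]
      · rw [he, pow_one]
        have hug : S.u = g := by rw [u, hN]; simp
        have hcg : Commute (w ^ j) g := hug ▸ ((show Commute w S.u from hcase w S.wP).pow_left j)
        rw [mul_assoc, ← mul_assoc (w ^ j), hcg.eq, mul_assoc g, ← pow_add, ← mul_assoc, ← hug, S.u_mul_self,
          one_mul, two_mul]
    refine hsa ?_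
    rw [← hvpow, hsplit, pow_mul, sq, hvv, ← pow_mul]
    exact (mem_st.1 (mem_st.1 (Subgroup.pow_mem _ S.hw _)).1).2

theorem false_of_sys : False := by
  have hcase : (∀ h ∈ P, orderOf h = 2 → h ≠ z → Conj G S.u h ∨ Conj G (S.u * z) h) ∧
      (Conj G S.u (S.u * z) ∨ ∀ p ∈ P, p * S.u = S.u * p) := by
    by_cases h4 : 4 ∣ Nat.card (Fx z)
    · exact ⟨fun h hh h2 hne => S.four_conj h4 hh h2 hne, S.four_central h4⟩
    · refine S.caseTwo ?_
      obtain ⟨k, hk⟩ := S.inv.even_fx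
      have h4' := S.good.four
      rw [S.ordg, show Nat.card (Fx z) = 2 * k by omega, twoPart_mul two_ne_zero (by omega),
        twoPart_of_odd (n := k) (Nat.not_even_iff_odd.1 fun ⟨r, hr⟩ => h4 ⟨r, by omega⟩), mul_one]
      exact twoPart_pow 1
  have huz : ¬ Conj G z (S.u * z) := by
    rcases hcase.2 with h | h
    · exact fun h' => S.not_conj_u (h'.trans h.symm)
    · exact S.uz_not_conj h
  have hkey : ∀ h ∈ P, Conj G z h → h = z := by
    intro h hh hc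
    by_contra hne
    have h2 : orderOf h = 2 := by
      obtain ⟨c, -, rfl⟩ := hc
      rw [← MulAut.conj_apply, MulEquiv.orderOf_eq, S.inv.order]
    rcases hcase.1 h hh h2 hne with h1 | h1
    · exact S.not_conj_u (hc.trans h1.symm)
    · exact huz (hc.trans h1.symm)
  let zG : G := ⟨z, S.inv.memG⟩
  have hiso : Cfsg.IsIsolatedInvolution zG := by
    refine ⟨by rw [← Subgroup.orderOf_coe]; exact S.inv.order, fun x hc => Subtype.ext ?_⟩
    set h := (x : Perm Ω) * z * (x : Perm Ω)⁻¹ with hh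
    have hcm : Commute h z := (congrArg Subtype.val hc.eq).symm
    have hhz : h ∈ cz G z := mem_cz.2 ⟨G.mul_mem (G.mul_mem x.2 S.inv.memG) (G.inv_mem x.2), hcm⟩
    have hh2 : h ^ 2 ^ 1 = 1 := by
      rw [hh, ← conj_pow', pow_one, sq z, S.inv.sq_one]
      group
    obtain ⟨c, hc', hconj⟩ := exists_conj_into (pGroup_zpowers hh2) (Subgroup.zpowers_le.2 hhz) S.pgrp S.ple S.pcard
    have h1 := hkey _ (hconj h (Subgroup.mem_zpowers h)) (Conj.trans ⟨x, x.2, hh.symm⟩ ⟨c, (mem_cz.1 hc').1, rfl⟩)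
    show h = z
    rw [mul_inv_eq_iff_eq_mul, ← (mem_cz.1 hc').2.eq] at h1
    exact mul_left_cancel h1
  have hcore : Cfsg.pPrimeCore 2 G = ⊥ := by
    rw [← Subgroup.map_eq_bot_iff_of_injective _ G.subtype_injective]
    refine S.inv.hyp.eq_one_of_normal_odd _ (Subgroup.map_subtype_le _) ?_ ?_
    · rintro x hx _ ⟨y, hy, rfl⟩
      exact ⟨⟨x, hx⟩ * y * ⟨x, hx⟩⁻¹, (Transfer.pPrimeCore_normal 2 G).conj_mem y hy _, rfl⟩
    · rw [Subgroup.card_map_of_injective G.subtype_injective]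
      exact ZStar.odd_card_core
  refine S.z_ne (Equiv.ext fun y => ?_)
  obtain ⟨k, hk, rfl⟩ := S.inv.hyp.trans a y
  have h1 := congrArg Subtype.val
    (ZStar.commute_of_commutatorsInCore hcore (ZStar.commutatorsInCore_of_isolated hiso) ⟨k, hk⟩).eq
  have h2 : z * k = k * z := h1
  rw [← Perm.mul_apply, h2, Perm.mul_apply, S.za]
  rfl

end Sys

end CfsgLib.CycZ
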