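import Cfsg.Agent.Lib.CycZFactor.TwoFixed
import Cfsg.Agent.Lib.CycZFactor.Isolated

/-!
The structure theorem for doubly transitive groups satisfying `Hyp`.
-/

universe u

namespace CfsgLib.CycZ

set_option linter.unusedSectionVars false
set_option linter.style.haveILetI false

open Equiv

theorem hyp_good_aux : ∀ (n : ℕ) (Ω : Type u) [Finite Ω] (G : Subgroup (Perm Ω)),
    Nat.card Ω = n → Hyp G → Nat.card Ω = 2 ∨ Good G := by
  intro n
  induction n using Nat.strong_induction_on with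
  | _ n ih =>
  intro Ω _ G hn h
  classical
  haveI := Fintype.ofFinite Ω
  haveI := Fact.mk Nat.prime_two
  obtain ⟨a⟩ : Nonempty Ω := (Nat.card_pos_iff.1 h.pos).1
  obtain ⟨b, hb⟩ := h.exists_ne a
  rcases Nat.even_or_odd (Nat.card (st (st G a) b)) with hev | hodd
  swap
  · exact Or.inl (h.two_of_odd hb hodd)
  obtain ⟨z, hz⟩ := exists_prime_orderOf_dvd_card' (G := st (st G a) b) 2 (even_iff_two_dvd.1 hev)
  have hz2 : orderOf (z : Perm Ω) = 2 := by rw [Subgroup.orderOf_coe, hz]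
  have I : Inv G (z : Perm Ω) a b := ⟨h, hb, z.2, hz2⟩
  have hza : (z : Perm Ω) a = a := (mem_st.1 (mem_st.1 z.2).1).2
  have hzb : (z : Perm Ω) b = b := (mem_st.1 z.2).2
  by_cases hf : Nat.card (Fx (z : Perm Ω)) = 2
  · refine Or.inr (Pair.good ⟨I.memG, hz2, hb, hza, hzb, fun v hv => ?_⟩ h)
    by_contra hc
    push Not at hc
    have h3 : ({⟨a, hza⟩, ⟨b, hzb⟩, ⟨v, hv⟩} : Finset (Fx (z : Perm Ω))).card ≤ Fintype.card (Fx (z : Perm Ω)) :=
      Finset.card_le_univ _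
    rw [← Nat.card_eq_fintype_card, hf, show ({⟨a, hza⟩, ⟨b, hzb⟩, ⟨v, hv⟩} : Finset (Fx (z : Perm Ω))).card = 3 by
      simp [hb.symm, hc.1.symm, hc.2.symm]] at h3
    omega
  · have hg := (ih _ (hn ▸ I.lt_fx) (Fx (z : Perm Ω)) (img G (z : Perm Ω)) rfl I.img_hyp).resolve_left hf
    obtain ⟨w, g, t, P, S⟩ := exists_sys I hg
    exact S.false_of_sys.elim

theorem hyp_good {Ω : Type u} [Finite Ω] {G : Subgroup (Perm Ω)} (h : Hyp G) :
    Nat.card Ω = 2 ∨ Good G :=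
  hyp_good_aux _ Ω G rfl h

end CfsgLib.CycZ
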