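import Cfsg.Agent.Lib.AutPSL.Structure
import Cfsg.Agent.Lib.SL2.Solvable

/-!
`PGL(2, p)` is the automorphism group of its simple subgroup of index at most two.
-/

namespace CfsgLib.CycZ

set_option linter.unusedSectionVars false
set_option linter.style.haveILetI false

open Matrix
open scoped MatrixGroups

/-- The facts used about `PGL(2, p)`. -/
structure AlmostSimple (T : Type*) [Group T] (I : Subgroup T) : Prop where
  normal : I.Normal
  index_le : Nat.card T ≤ 2 * Nat.card I
  derived : ∀ X : Subgroup T, X.Normal → ¬ Group.IsSolvable X → ⁅X, X⁆ = I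
  cent : ∀ x : T, (∀ y ∈ I, x * y = y * x) → x = 1
  rad : ∀ X : Subgroup T, X.Normal → Group.IsSolvable X → X = ⊥
  aut : Nonempty (MulAut I ≃* T)

theorem almostSimple_mulAut {S : Type*} [Group S] [Finite S] [IsSimpleGroup S] (hS : ¬ Group.IsSolvable S)
    (hcard : Nat.card (MulAut S) ≤ 2 * Nat.card S) :
    AlmostSimple (MulAut S) (MulAut.conj (G := S)).range := by
  have hconj : ∀ (x : MulAut S) (s : S), x * MulAut.conj s * x⁻¹ = MulAut.conj (x s) := by
    intro x s
    refine MulEquiv.ext fun v => ?_
    simp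
  have hinj : Function.Injective (MulAut.conj (G := S)) := by
    refine (MonoidHom.ker_eq_bot_iff _).1 ((Subgroup.Normal.eq_bot_or_eq_top inferInstance).resolve_right fun ht => ?_)
    refine hS (IsSimpleGroup.comm_iff_isSolvable.1 fun a b => ?_)
    have h1 : MulAut.conj a = 1 := MonoidHom.mem_ker.1 (ht ▸ Subgroup.mem_top a)
    have h2 := congrArg (fun φ : MulAut S => φ b) h1
    simp only [MulAut.conj_apply, MulAut.one_apply] at h2
    exact mul_inv_eq_iff_eq_mul.1 h2
  set I := (MulAut.conj (G := S)).range with hIdef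
  have hI : Nat.card I = Nat.card S := Nat.card_congr (MonoidHom.ofInjective hinj).toEquiv.symm
  have hnorm : I.Normal := ⟨by rintro _ ⟨s, rfl⟩ x; exact ⟨x s, (hconj x s).symm⟩⟩
  haveI := hnorm
  haveI : Nontrivial I := (MonoidHom.ofInjective hinj).toEquiv.symm.nontrivial
  haveI : IsSimpleGroup I := IsSimpleGroup.isSimpleGroup_of_surjective _
    (MonoidHom.ofInjective hinj).surjective
  have hIns : ¬ Group.IsSolvable I := fun hs =>
    hS (Group.isSolvable_of_isSolvable_injective (f := (MonoidHom.ofInjective hinj).toMonoidHom)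
      (MonoidHom.ofInjective hinj).injective)
  have hcent : ∀ x : MulAut S, (∀ y ∈ I, x * y = y * x) → x = 1 := by
    intro x hx
    refine MulEquiv.ext fun s => hinj ?_
    rw [← hconj, hx _ ⟨s, rfl⟩, mul_inv_cancel_right]
    rfl
  have hle : ∀ X : Subgroup (MulAut S), X.Normal → X = ⊥ ∨ I ≤ X := by
    intro X hX
    haveI := hX
    rcases (Subgroup.Normal.eq_bot_or_eq_top (H := X.subgroupOf I) inferInstance) with h | h
    · refine Or.inl ((Subgroup.eq_bot_iff_forall _).2 fun x hx => hcent x fun y hy => ?_)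
      have hdis : Disjoint X I := Subgroup.subgroupOf_eq_bot.1 h
      exact (Subgroup.commute_of_normal_of_disjoint X I hX hnorm hdis x y hx hy).eq
    · exact Or.inr (Subgroup.subgroupOf_eq_top.1 h)
  have hind : I.index ≤ 2 := by
    have h1 := I.card_mul_index
    rw [hI] at h1
    by_contra hlt
    have h3 : Nat.card S * 3 ≤ Nat.card S * I.index := Nat.mul_le_mul_left _ (by omega)
    have := Nat.card_pos (α := S)
    omega
  refine ⟨hnorm, by rw [hI]; exact hcard, ?_, hcent, ?_,
    ⟨(MulAut.congr (MonoidHom.ofInjective hinj)).symm⟩⟩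
  · intro X hX hXs
    have hIX : I ≤ X := (hle X hX).resolve_left fun hb => by subst hb; exact hXs inferInstance
    refine le_antisymm ((Subgroup.commutator_le).2 fun x _ y _ => ?_) ?_
    · rcases Nat.lt_or_ge I.index 2 with h1 | h1
      · have : I = ⊤ := Subgroup.index_eq_one.1 (by have := Subgroup.index_ne_zero_of_finite (H := I); omega)
        rw [this]; exact Subgroup.mem_top _
      · have h2 : I.index = 2 := le_antisymm hind h1
        rw [commutatorElement_def]
        simp only [Subgroup.mul_mem_iff_of_index_two h2, inv_mem_iff]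
        tauto
    · refine le_trans ?_ (Subgroup.commutator_mono hIX hIX)
      rcases Subgroup.Normal.eq_bot_or_eq_top (H := commutator I) inferInstance with h | h
      · exact absurd (IsSimpleGroup.comm_iff_isSolvable.1 fun a b => commutatorElement_eq_one_iff_mul_comm.1
          (by rw [← Subgroup.mem_bot, ← h]; exact Subgroup.commutator_mem_commutator (Subgroup.mem_top a) (Subgroup.mem_top b))) hIns
      · rw [← Subgroup.map_subtype_commutator, h, ← MonoidHom.range_eq_map, Subgroup.range_subtype]
  · intro X hX hXs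
    refine (hle X hX).resolve_right fun hIX => hIns ?_
    exact Group.isSolvable_of_isSolvable_injective (f := Subgroup.inclusion hIX) (Subgroup.inclusion_injective hIX)

theorem AlmostSimple.of_mulEquiv {T T' : Type*} [Group T] [Group T'] {I : Subgroup T}
    (h : AlmostSimple T I) (e : T ≃* T') : AlmostSimple T' (I.map e.toMonoidHom) where
  normal := h.normal.map _ e.surjective
  index_le := by
    rw [← Nat.card_congr e.toEquiv, Subgroup.card_map_of_injective e.injective]
    exact h.index_le
  derived X hX hXs := by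
    have h1 := h.derived (X.comap e.toMonoidHom) (hX.comap _) (fun hs => hXs ?_)
    · rw [← h1, Subgroup.map_commutator, Subgroup.map_comap_eq_self_of_surjective (f := e.toMonoidHom) e.surjective]
    · haveI := hs
      exact Group.isSolvable_of_surjective (f := (e.toMonoidHom.comp (X.comap e.toMonoidHom).subtype).codRestrict X
        (fun x => x.2)) (fun y => ⟨⟨e.symm y, by simp⟩, Subtype.ext (e.apply_symm_apply _)⟩)
  cent x hx := by
    have h1 := h.cent (e.symm x) fun y hy => e.injective (by
      rw [map_mul, map_mul, e.apply_symm_apply]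
      exact hx _ ⟨y, hy, rfl⟩)
    rw [← e.apply_symm_apply x, h1, map_one]
  rad X hX hXs := by
    haveI := hXs
    have h1 := h.rad (X.comap e.toMonoidHom) (hX.comap _) (Group.isSolvable_of_isSolvable_injective
      (f := (e.toMonoidHom.comp (X.comap e.toMonoidHom).subtype).codRestrict X (fun x => x.2))
      (fun x y hxy => Subtype.ext (e.injective (congrArg Subtype.val hxy))))
    rw [← Subgroup.map_comap_eq_self_of_surjective (f := e.toMonoidHom) e.surjective X, h1, Subgroup.map_bot]
  aut := by
    obtain ⟨f⟩ := h.aut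
    exact ⟨((MulAut.congr (I.equivMapOfInjective e.toMonoidHom e.injective)).symm.trans f).trans e⟩

theorem ringAut_eq_one {F : Type*} [Field F] [Fintype F] {p : ℕ} [Fact p.Prime] (hc : Fintype.card F = p)
    (σ : F ≃+* F) : σ = 1 := by
  let e := ZMod.ringEquivOfPrime F Fact.out hc
  refine RingEquiv.ext fun x => ?_
  obtain ⟨y, rfl⟩ := e.surjective x
  exact RingHom.congr_fun (RingHom.ext_zmod (σ.toRingHom.comp e.toRingHom) e.toRingHom) y

theorem almostSimple_pgl {F : Type} [Field F] [Fintype F] {p : ℕ} (hp : p.Prime) (h3 : 3 < p)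
    (hc : Fintype.card F = p) : ∃ I : Subgroup (Matrix.ProjGenLinGroup (Fin 2) F),
      AlmostSimple (Matrix.ProjGenLinGroup (Fin 2) F) I := by
  haveI := Fact.mk hp
  haveI : CharP F p := charP_of_card_eq_prime_pow (f := 1) (by rw [pow_one, hc])
  obtain ⟨hsimp, hns⟩ := CfsgLib.SL2.four_le_card_of_isSimple (K := F) (by rw [Nat.card_eq_fintype_card, hc]; omega)
  haveI := hsimp
  let δ : Matrix.ProjGenLinGroup (Fin 2) F →* MulAut (ProjectiveSpecialLinearGroup (Fin 2) F) := AutPSL.deltaP
  have hsurj : Function.Surjective δ := by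
    intro β
    obtain ⟨g, σ, h⟩ := AutPSL.exists_normal_form_two p β
    refine ⟨Matrix.ProjGenLinGroup.mk g, ?_⟩
    rw [h, ringAut_eq_one hc σ, map_one, mul_one]
    rfl
  let e := MulEquiv.ofBijective δ ⟨AutPSL.deltaP_injective p le_rfl, hsurj⟩
  have hcard : Nat.card (MulAut (ProjectiveSpecialLinearGroup (Fin 2) F)) ≤
      2 * Nat.card (ProjectiveSpecialLinearGroup (Fin 2) F) := by
    rw [← Nat.card_congr e.toEquiv]
    let sq : Subgroup Fˣ := (powMonoidHom 2 : Fˣ →* Fˣ).range
    let χ : GL (Fin 2) F →* Fˣ ⧸ sq := (QuotientGroup.mk' sq).comp Matrix.GeneralLinearGroup.det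
    have hχ : Subgroup.center (GL (Fin 2) F) ≤ χ.ker := by
      intro g hg
      obtain ⟨r, rfl⟩ := Matrix.GeneralLinearGroup.center_eq_range_scalar (n := Fin 2) (R := F) ▸ hg
      refine (QuotientGroup.eq_one_iff _).2 ⟨r, ?_⟩
      ext
      simp
    let χP : Matrix.ProjGenLinGroup (Fin 2) F →* Fˣ ⧸ sq := QuotientGroup.lift _ χ hχ
    have hker : Nat.card χP.ker ≤ Nat.card (ProjectiveSpecialLinearGroup (Fin 2) F) := by
      have hex : ∀ x : χP.ker, ∃ s : SpecialLinearGroup (Fin 2) F,
          Matrix.ProjGenLinGroup.mk (Matrix.SpecialLinearGroup.toGL s) = (x : Matrix.ProjGenLinGroup (Fin 2) F) := by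
        rintro ⟨x, hx⟩
        obtain ⟨g, rfl⟩ := Matrix.ProjGenLinGroup.mk_surjective x
        obtain ⟨r, hr⟩ := (QuotientGroup.eq_one_iff _).1 (show χ g = 1 from hx)
        let c : GL (Fin 2) F := Matrix.GeneralLinearGroup.scalar (Fin 2) r⁻¹
        have hdet : ((c * g : GL (Fin 2) F) : Matrix (Fin 2) (Fin 2) F).det = 1 := by
          have h1 := congrArg Units.val hr
          simp only [powMonoidHom_apply, Units.val_pow_eq_pow_val, Matrix.GeneralLinearGroup.val_det_apply] at h1
          have h2 : (r : F) ≠ 0 := r.ne_zero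
          rw [Units.val_mul, Matrix.det_mul, ← h1]
          simp [c, Matrix.det_diagonal]
        refine ⟨⟨_, hdet⟩, ?_⟩
        show Matrix.ProjGenLinGroup.mk (Matrix.SpecialLinearGroup.toGL ⟨_, hdet⟩) = Matrix.ProjGenLinGroup.mk g
        rw [show Matrix.SpecialLinearGroup.toGL ⟨_, hdet⟩ = c * g from Units.ext rfl, map_mul]
        rw [show Matrix.ProjGenLinGroup.mk c = 1 from (QuotientGroup.eq_one_iff c).2
          (Matrix.GeneralLinearGroup.center_eq_range_scalar (n := Fin 2) (R := F) ▸ ⟨_, rfl⟩), one_mul]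
      choose s hs using hex
      refine Nat.card_le_card_of_injective (fun x => AutPSL.mkP (s x)) fun x y hxy => Subtype.ext ?_
      refine AutPSL.deltaP_injective p le_rfl ?_
      rw [← hs x, ← hs y, AutPSL.deltaP_mk, AutPSL.deltaP_mk, AutPSL.delta_toGL, AutPSL.delta_toGL]
      exact congrArg _ hxy
    have hidx : χP.ker.index ≤ 2 := by
      rw [Subgroup.index_ker]
      refine le_trans (Subgroup.card_le_card_group _) ?_
      rw [← Subgroup.index_eq_card, IsCyclic.index_powMonoidHom_range]
      exact Nat.le_of_dvd two_pos (Nat.gcd_dvd_right _ _)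
    rw [← χP.ker.card_mul_index]
    exact (Nat.mul_le_mul hker hidx).trans_eq (mul_comm _ _)
  exact ⟨_, (almostSimple_mulAut hns hcard).of_mulEquiv e.symm⟩

end CfsgLib.CycZ
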