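import Cfsg.Agent.Lib.CycZFactor.Induction
import Cfsg.Agent.Lib.Perm.SharplyThree
import Cfsg.Agent.S3559
import Cfsg.Agent.S3972
import Cfsg.Agent.S4337

/-!
A core-free maximal Z-subgroup with a cyclic supplement: the group is `PGL(2, p)`.
-/

namespace CfsgLib.CycZ

set_option linter.unusedSectionVars false
set_option linter.unusedVariables false
set_option linter.style.haveILetI false

open Equiv MulAction

variable {Ω : Type*} [Fintype Ω] [DecidableEq Ω] {G : Subgroup (Perm Ω)}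

theorem Good.exists_pgl (hg : Good G) (h : Hyp G) :
    ∃ (F : Type) (_ : Field F) (_ : Fintype F), Fintype.card F + 1 = Nat.card Ω ∧
      Nonempty (G ≃* Matrix.ProjGenLinGroup (Fin 2) F) := by
  have h3 : IsMultiplyPretransitive G Ω 3 := by
    refine ⟨fun x y => ?_⟩
    have hx01 : x 0 ≠ x 1 := x.injective.ne (by decide)
    have hy01 : y 0 ≠ y 1 := y.injective.ne (by decide)
    obtain ⟨g, hgG, hg0, hg1⟩ := h.two _ _ _ _ hx01 hy01
    have hx2 : ∀ v : Ω, v = y 0 ∨ v = y 1 → g (x 2) ≠ v := by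
      rintro v (rfl | rfl) he
      · exact x.injective.ne (by decide : (2 : Fin 3) ≠ 0) (g.injective (he.trans hg0.symm))
      · exact x.injective.ne (by decide : (2 : Fin 3) ≠ 1) (g.injective (he.trans hg1.symm))
    -- the two-point stabiliser is transitive on the remaining points
    let f : st (st G (y 0)) (y 1) → Ω := fun d => d.1 (g (x 2))
    have hinj : Function.Injective f := by
      intro d e he
      obtain ⟨hd, hd1⟩ := mem_st.1 d.2
      obtain ⟨hdG, hd0⟩ := mem_st.1 hd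
      obtain ⟨he', he1⟩ := mem_st.1 e.2
      obtain ⟨heG, he0⟩ := mem_st.1 he'
      refine Subtype.ext (inv_mul_eq_one.1 (hg.free _ (G.mul_mem (G.inv_mem heG) hdG) (y 0) (y 1) (g (x 2))
        hy01 (hx2 _ (Or.inr rfl)).symm (hx2 _ (Or.inl rfl)).symm ?_ ?_ ?_)).symm
      · rw [Perm.mul_apply, hd0, Perm.inv_eq_iff_eq, he0]
      · rw [Perm.mul_apply, hd1, Perm.inv_eq_iff_eq, he1]
      · rw [Perm.mul_apply, Perm.inv_eq_iff_eq]
        exact he
    have hsub : Set.range f ⊆ ({y 0, y 1} : Set Ω)ᶜ := by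
      rintro v ⟨d, rfl⟩ hv
      obtain ⟨hd, hd1⟩ := mem_st.1 d.2
      simp only [Set.mem_insert_iff, Set.mem_singleton_iff] at hv
      rcases hv with h1 | h1
      · exact hx2 _ (Or.inl rfl) (d.1.injective (h1.trans (mem_st.1 hd).2.symm))
      · exact hx2 _ (Or.inr rfl) (d.1.injective (h1.trans hd1.symm))
    have heq : Set.range f = ({y 0, y 1} : Set Ω)ᶜ := by
      refine Set.eq_of_subset_of_ncard_le hsub ?_
      rw [Set.ncard_range_of_injective hinj, Set.ncard_compl, Set.ncard_pair hy01, hg.cardD _ _ hy01]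
    obtain ⟨d, hd : d.1 (g (x 2)) = y 2⟩ : y 2 ∈ Set.range f := by
      rw [heq]
      simp [y.injective.ne (by decide : (2 : Fin 3) ≠ 0), y.injective.ne (by decide : (2 : Fin 3) ≠ 1)]
    obtain ⟨hd', hd1⟩ := mem_st.1 d.2
    refine ⟨⟨d.1 * g, G.mul_mem (mem_st.1 hd').1 hgG⟩, Function.Embedding.ext fun i => ?_⟩
    show (d.1 * g) (x i) = y i
    fin_cases i
    · simp [hg0, (mem_st.1 hd').2]
    · simp [hg1, hd1]
    · simp [hd]
  have hsharp : ∀ x : Fin 3 ↪ Ω, stabilizer G x = ⊥ := by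
    intro x
    rw [Subgroup.eq_bot_iff_forall]
    intro g hgs
    refine Subtype.ext (hg.free _ g.2 (x 0) (x 1) (x 2) (x.injective.ne (by decide)) (x.injective.ne (by decide))
      (x.injective.ne (by decide)) ?_ ?_ ?_) <;> exact DFunLike.congr_fun (mem_stabilizer_iff.1 hgs) _
  have hcard : 3 ≤ Fintype.card Ω := by
    have := hg.four
    rw [Nat.card_eq_fintype_card] at this
    omega
  obtain ⟨a, b, c, hab, hac, hbc⟩ := Fintype.two_lt_card_iff.1 (show 2 < Fintype.card Ω by omega)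
  obtain ⟨F, hF, hFf, hc, he⟩ := Cfsg.Agent.Lib.Perm.SharplyThree.exists_pgl h3 hsharp hcard hab hac hbc
    (fun g k hga hgb hka hkb => Subtype.ext (h.D_comm hab.symm (mem_st.2 ⟨mem_st.2 ⟨g.2, hga⟩, hgb⟩)
      (mem_st.2 ⟨mem_st.2 ⟨k.2, hka⟩, hkb⟩)))
  exact ⟨F, hF, hFf, by rw [Nat.card_eq_fintype_card, hc], he⟩

/-- Conclusion of the classification. -/
def IsPGL (G : Type*) [Group G] (A B : Subgroup G) : Prop :=
  ∃ (F : Type) (_ : Field F) (_ : Fintype F) (p : ℕ), p.Prime ∧ 3 < p ∧ Fintype.card F = p ∧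
    Nonempty (G ≃* Matrix.ProjGenLinGroup (Fin 2) F) ∧ Nat.card A = p + 1 ∧ Nat.card B = p * (p - 1) ∧
    Nat.card G = (p + 1) * (p * (p - 1))

theorem primitive_case {G : Type*} [Group G] [Finite G] (hns : ¬ Group.IsSolvable G) (A M : Subgroup G)
    (hA : IsCyclic A) (hM : IsZGroup M) (hcore : M.normalCore = ⊥) (hmax : IsCoatom M)
    (hAM : ∀ g : G, ∃ a ∈ A, ∃ m ∈ M, g = a * m) : IsPGL G A M := by
  classical
  haveI := Fact.mk Nat.prime_two
  haveI : Fintype (G ⧸ M) := Fintype.ofFinite _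
  let f : G →* Perm (G ⧸ M) := MulAction.toPermHom G (G ⧸ M)
  have hfinj : Function.Injective f := by
    rw [← MonoidHom.ker_eq_bot_iff, ← hcore, Subgroup.normalCore_eq_ker]
  let x0 : G ⧸ M := ((1 : G) : G ⧸ M)
  have hfx0 : ∀ g : G, f g x0 = (g : G ⧸ M) := fun g => by
    show ((g * 1 : G) : G ⧸ M) = _
    rw [mul_one]
  have hfix : ∀ g : G, f g x0 = x0 ↔ g ∈ M := fun g => by
    rw [hfx0, QuotientGroup.eq, mul_one, inv_mem_iff]
  haveI : FaithfulSMul G (G ⧸ M) := ⟨fun {g k} hgk => hfinj (Equiv.ext hgk)⟩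
  obtain ⟨a0, ha0⟩ := hA.exists_generator
  have hcommA : ∀ a ∈ A, ∀ b ∈ A, a * b = b * a := by
    intro a ha b hb
    letI := IsCyclic.commGroup (α := A)
    exact congrArg Subtype.val (mul_comm (⟨a, ha⟩ : A) ⟨b, hb⟩)
  have hAsurj : ∀ y : G ⧸ M, ∃ a ∈ A, f a x0 = y := by
    intro y
    obtain ⟨g, rfl⟩ := QuotientGroup.mk_surjective y
    obtain ⟨a, ha, m, hm, rfl⟩ := hAM g
    refine ⟨a, ha, ?_⟩
    rw [hfx0, QuotientGroup.eq, ← mul_assoc, inv_mul_cancel, one_mul]
    exact hm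
  have hAfree : ∀ a ∈ A, ∀ y, f a y = y → a = 1 := by
    intro a ha y hy
    refine hfinj ?_
    rw [map_one]
    refine Equiv.ext fun v => ?_
    obtain ⟨c, hc, rfl⟩ := hAsurj y
    obtain ⟨b, hb, rfl⟩ := hAsurj v
    have h1 : f a x0 = x0 := by
      have h2 : f c (f a x0) = f c x0 := by
        rw [← Perm.mul_apply, ← map_mul, hcommA c hc a ha, map_mul, Perm.mul_apply]
        exact hy
      exact (f c).injective h2
    rw [← Perm.mul_apply, ← map_mul, hcommA a ha b hb, map_mul, Perm.mul_apply, h1]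
    rfl
  set n := Nat.card (G ⧸ M) with hn
  have hcardA : Nat.card A = n := by
    refine Nat.card_eq_of_bijective (fun a : A => f a x0) ⟨fun a b hab => ?_, fun y => ?_⟩
    · have : (b : G)⁻¹ * a = 1 := hAfree _ (A.mul_mem (A.inv_mem b.2) a.2) x0 (by
        rw [map_mul, Perm.mul_apply, map_inv, Perm.inv_eq_iff_eq]
        exact hab)
      exact Subtype.ext (inv_mul_eq_one.1 this).symm
    · obtain ⟨a, ha, he⟩ := hAsurj y
      exact ⟨⟨a, ha⟩, he⟩
  have hnidx : n = M.index := rfl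
  have hcardG : Nat.card G = n * Nat.card M := by rw [hnidx, Subgroup.index_mul_card]
  have hn0 : 0 < n := Nat.card_pos
  -- even degree
  have hev : Even n := by
    by_contra hodd
    rw [Nat.not_even_iff_odd] at hodd
    obtain ⟨Q, -, hQ, hQp, hQc⟩ := exists_two_subgroup (H := M) (Q := ⊥) IsPGroup.of_bot bot_le
    have hQG : Nat.card Q = twoPart (Nat.card G) := by
      rw [hQc, hcardG, twoPart_mul hn0.ne' Nat.card_pos.ne', twoPart_of_odd hodd, one_mul]
    haveI : IsZGroup Q := IsZGroup.of_injective (f := Subgroup.inclusion hQ) (Subgroup.inclusion_injective hQ)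
    haveI := hQp.isNilpotent
    exact hns (solvable_of_cyclic_sylow_two (Sylow.ofCard Q (by rw [hQG]; rfl))
      (show IsCyclic Q by infer_instance))
  have hn4 : 4 ≤ n := by
    by_contra hlt
    obtain ⟨k, hk⟩ := hev
    have hn2 : n = 2 := by omega
    haveI := Subgroup.normal_of_index_eq_two (hnidx.symm.trans hn2)
    rw [Subgroup.normalCore_eq_self] at hcore
    have : Nat.card G = 2 := by rw [hcardG, hn2, hcore, Subgroup.card_bot]
    haveI := isCyclic_of_prime_card this
    exact hns inferInstance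
  haveI : Nontrivial (G ⧸ M) := Finite.one_lt_card_iff_nontrivial.1 (by omega)
  have hstab : stabilizer G x0 = M := by
    ext g
    exact hfix g
  haveI hprim : IsPreprimitive G (G ⧸ M) := (isCoatom_stabilizer_iff_preprimitive (G := G) x0).1 (by rw [hstab]; exact hmax)
  let Gp := f.range
  -- the cyclic regular subgroup
  have hord : orderOf (a0 : G) = n := by
    rw [Subgroup.orderOf_coe, orderOf_eq_card_of_forall_mem_zpowers ha0, hcardA]
  have htwo : ∀ a b c d : G ⧸ M, a ≠ b → c ≠ d → ∃ g ∈ Gp, g a = c ∧ g b = d := by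
    suffices h2 : IsMultiplyPretransitive G (G ⧸ M) 2 by
      intro a b c d hab hcd
      obtain ⟨g, h1, h2⟩ := is_two_pretransitive_iff.1 h2 hab hcd
      exact ⟨f g, ⟨g, rfl⟩, h1, h2⟩
    by_cases hpp : IsPrimePow n
    · obtain ⟨p, m, hp, hm, hpm⟩ := hpp
      have hp' := hp.nat_prime
      have hp2 : p = 2 := by
        have h2 : 2 ∣ p ^ m := hpm ▸ even_iff_two_dvd.1 hev
        exact ((Nat.prime_dvd_prime_iff_eq Nat.prime_two hp').1 (Nat.prime_two.dvd_of_dvd_pow h2)).symm
      have hm2 : 2 ≤ m := by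
        by_contra hm'
        have : m = 1 := by omega
        rw [this, pow_one, hp2] at hpm
        omega
      by_contra h2
      let φ : G → Gp := fun g => ⟨f g, g, rfl⟩
      let idf : (G ⧸ M) →ₑ[φ] (G ⧸ M) := { toFun := id, map_smul' := fun g v => rfl }
      haveI : IsPreprimitive Gp (G ⧸ M) := IsPreprimitive.of_surjective (f := idf) Function.surjective_id
      refine (Cfsg.Agent.S3972.result p m hp' hm2 (by rw [← Nat.card_eq_fintype_card, ← hn, hpm]) Gp
        inferInstance ?_ ⟨f a0, a0, rfl⟩ (by rw [← Subgroup.orderOf_coe]; exact (orderOf_injective f hfinj (a0 : G)).trans (hord.trans hpm.symm))).1 inferInstance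
      intro h2'
      refine h2 (is_two_pretransitive_iff.2 fun {a b c d} hab hcd => ?_)
      obtain ⟨⟨g', g, rfl⟩, h1, h3⟩ := is_two_pretransitive_iff.1 h2' hab hcd
      exact ⟨g, h1, h3⟩
    · refine (Cfsg.Agent.S3559.result (G := G) (Ω := G ⧸ M) inferInstance (by omega) hpp A hA
        ⟨⟨fun v w => ?_⟩, fun v => ?_⟩).resolve_left (fun hnp => hnp hprim)
      · obtain ⟨a, ha, rfl⟩ := hAsurj v
        obtain ⟨b, hb, rfl⟩ := hAsurj w
        refine ⟨⟨b * a⁻¹, A.mul_mem hb (A.inv_mem ha)⟩, ?_⟩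
        show f (b * a⁻¹) (f a x0) = f b x0
        rw [← Perm.mul_apply, ← map_mul, inv_mul_cancel_right]
      · rw [Subgroup.eq_bot_iff_forall]
        intro a ha
        exact Subtype.ext (hAfree _ a.2 v ha)
  -- point stabilisers
  have hstg : ∀ (g : G) (y : G ⧸ M), y = (g : G ⧸ M) →
      ∃ e : M →* st Gp y, Function.Bijective e := by
    rintro g y rfl
    let e : M →* st Gp (g : G ⧸ M) :=
      { toFun := fun m => ⟨f (g * m * g⁻¹), mem_st.2 ⟨⟨_, rfl⟩, by
          rw [← hfx0, ← Perm.mul_apply, ← map_mul, inv_mul_cancel_right, map_mul, Perm.mul_apply, (hfix m).2 m.2]⟩⟩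
        map_one' := Subtype.ext (by simp)
        map_mul' := fun a b => Subtype.ext (by
          show f _ = f _ * f _
          rw [← map_mul]
          congr 1
          push_cast
          group) }
    refine ⟨e, fun a b hab => ?_, ?_⟩
    · have h1 := hfinj (congrArg Subtype.val hab)
      exact Subtype.ext (mul_left_cancel (mul_right_cancel h1))
    · rintro ⟨v, hv⟩
      obtain ⟨⟨k, rfl⟩, hk⟩ := mem_st.1 hv
      refine ⟨⟨g⁻¹ * k * g, (hfix _).1 ?_⟩, Subtype.ext (congrArg f (by group))⟩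
      rw [map_mul, map_mul, Perm.mul_apply, Perm.mul_apply, hfx0, hk, map_inv, Perm.inv_eq_iff_eq, hfx0]
  have hcst : ∀ y, Nat.card (st Gp y) = Nat.card M := fun y => by
    obtain ⟨g, rfl⟩ := QuotientGroup.mk_surjective y
    obtain ⟨e, he⟩ := hstg g _ rfl
    exact (Nat.card_eq_of_bijective e he).symm
  have hcGp : Nat.card Gp = n * Nat.card M := by
    rw [← Nat.card_congr (MonoidHom.ofInjective hfinj).toEquiv, hcardG]
  -- semiregular factorisations
  obtain ⟨q, hq⟩ : twoPart n ∣ n := twoPart_dvd n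
  have hq0 : q ≠ 0 := fun h => by rw [h, mul_zero] at hq; omega
  have hsemiA : Semireg (f ((a0 : G) ^ q)) := by
    intro i y hy
    rw [← map_pow] at hy ⊢
    rw [hAfree _ (A.pow_mem (A.pow_mem a0.2 q) i) y hy, map_one]
  have hordA : orderOf (f ((a0 : G) ^ q)) = twoPart n := by
    rw [orderOf_injective f hfinj, orderOf_pow' _ hq0, hord, Nat.gcd_eq_right ⟨twoPart n, by rw [mul_comm]; exact hq⟩]
    exact Nat.div_eq_of_eq_mul_left (Nat.pos_of_ne_zero hq0) hq
  have hH : Hyp Gp := by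
    refine ⟨htwo, hev, hn0, fun y => ?_, fun y P hPle hPp hPc => ?_⟩
    · obtain ⟨g, rfl⟩ := QuotientGroup.mk_surjective y
      obtain ⟨e, he⟩ := hstg g _ rfl
      exact IsZGroup.of_surjective (f := e) he.2
    · obtain ⟨S, hPS, hSle, hSp, hSc⟩ := exists_two_subgroup (H := Gp) hPp hPle
      have hγ : f ((a0 : G) ^ q) ^ 2 ^ (n.factorization 2) = 1 := by
        rw [show 2 ^ (n.factorization 2) = twoPart n from rfl, ← hordA, pow_orderOf_eq_one]
      obtain ⟨c, hc, hconj⟩ := exists_conj_into (H := Gp) (pGroup_zpowers hγ) ((Subgroup.zpowers_le (H := Gp)).2 ⟨_, rfl⟩) hSp hSle hSc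
      set g0 := c * f ((a0 : G) ^ q) * c⁻¹ with hg0
      have hg0S : g0 ∈ S := hconj _ (Subgroup.mem_zpowers _)
      have hg0s : Semireg g0 := by
        intro i v hv
        rw [hg0, conj_pow] at hv ⊢
        have h1 : (f ((a0 : G) ^ q) ^ i) (c⁻¹ v) = c⁻¹ v := by
          rw [Perm.mul_apply, Perm.mul_apply] at hv
          exact (Perm.inv_eq_iff_eq.2 hv.symm).symm
        rw [hsemiA i _ h1, mul_one, mul_inv_cancel]
      have hg0o : orderOf g0 = twoPart n := by rw [hg0, ← MulAut.conj_apply, MulEquiv.orderOf_eq, hordA]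
      have hsub : st P y = st S y := by
        refine Subgroup.eq_of_le_of_card_ge (st_mono hPS y) ?_
        rw [hPc]
        exact Nat.le_of_dvd (twoPart_pos _) (card_dvd_twoPart (hSp.to_le (st_le _ _)) (st_mono hSle y))
      have hdS : Nat.card S = orderOf g0 * Nat.card (st S y) := by
        rw [hSc, hcGp, twoPart_mul hn0.ne' Nat.card_pos.ne', hg0o, ← hsub, hPc, hcst]
      haveI : IsCyclic ↥(Subgroup.zpowers g0 ⊓ P) := Subgroup.isCyclic_of_le inf_le_left
      obtain ⟨g, hg⟩ := IsCyclic.exists_generator (α := ↥(Subgroup.zpowers g0 ⊓ P))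
      obtain ⟨hgz, hgP⟩ := Subgroup.mem_inf.1 g.2
      have hgs : Semireg (g : Perm (G ⧸ M)) := by
        obtain ⟨k, hk⟩ := (mem_powers_iff_mem_zpowers.2 hgz)
        simp only at hk
        rw [← hk]
        exact hg0s.pow k
      refine ⟨g, hgP, hgs, le_antisymm ?_ (le_card_of_semireg hgP hgs)⟩
      refine card_le_of_decomp fun p hp => ?_
      obtain ⟨i, -, k, hk, rfl⟩ := decomp hg0S hg0s hdS (hPS hp)
      rw [← hsub] at hk
      have hmem : g0 ^ i ∈ Subgroup.zpowers g0 ⊓ P := Subgroup.mem_inf.2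
        ⟨Subgroup.pow_mem _ (Subgroup.mem_zpowers _) i, (Subgroup.mul_mem_cancel_right P (mem_st.1 hk).1).1 hp⟩
      obtain ⟨j, hj⟩ := mem_powers_iff_mem_zpowers.2 (hg ⟨_, hmem⟩)
      exact ⟨j, k, hk, by rw [show (g : Perm (G ⧸ M)) ^ j = g0 ^ i by simpa using congrArg Subtype.val hj]⟩
  have hgood : Good Gp := (hyp_good hH).resolve_left (by rw [← hn]; omega)
  obtain ⟨F, hF, hFf, hcF, ⟨e⟩⟩ := hgood.exists_pgl hH
  rw [← hn] at hcF
  have hp : (n - 1).Prime := hgood.prime
  obtain ⟨b, hb⟩ := hH.exists_ne x0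
  have hM' : Nat.card M = (n - 1) * (n - 2) := by
    rw [← hcst x0, hH.card_st hb, hgood.cardD x0 b hb.symm]
  refine ⟨F, hF, hFf, n - 1, hp, ?_, by omega, ⟨(MonoidHom.ofInjective hfinj).trans e⟩, ?_, ?_, ?_⟩
  · by_contra hlt
    have hn' : n = 4 := by omega
    haveI := CfsgLib.SmallPerm.isSolvable_perm_fin_four
    let e4 : (G ⧸ M) ≃ Fin 4 := Finite.equivFinOfCardEq hn'
    exact hns (Group.isSolvable_of_isSolvable_injective (f := e4.permCongrHom.toMonoidHom.comp f)
      (e4.permCongrHom.injective.comp hfinj))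
  · rw [hcardA]; omega
  · rw [hM', show n - 1 - 1 = n - 2 by omega]
  · rw [hcardG, hM', show n - 1 + 1 = n by omega, show n - 1 - 1 = n - 2 by omega]

end CfsgLib.CycZ
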