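import Cfsg.Agent.Lib.CycZFactor.Primitive
import Cfsg.Agent.Lib.CycZFactor.PGLFacts
import Cfsg.Agent.Lib.Layer.Radical

/-!
Nonsolvable products of a cyclic group and a Z-group with trivial solvable radical are `PGL(2, p)`.
-/

universe u

namespace CfsgLib.CycZ

set_option linter.unusedSectionVars false
set_option linter.unusedVariables false
set_option linter.style.haveILetI false

theorem two_le_twoPart {n : ℕ} (hn : n ≠ 0) (h : 2 ∣ n) : 2 ≤ twoPart n :=
  Nat.le_of_dvd (twoPart_pos _) (two_dvd_twoPart hn h)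

theorem twoPart_eq_two {n : ℕ} (h : n % 4 = 2) : twoPart n = 2 := by
  obtain ⟨k, hk⟩ : 2 ∣ n := Nat.dvd_of_mod_eq_zero (by omega)
  rw [hk, twoPart_mul two_ne_zero (by omega), twoPart_of_odd (n := k) ⟨k / 2, by omega⟩, mul_one]
  exact twoPart_pow 1

/-- The two-part data of `PGL(2, p)`. -/
theorem pgl_parts {p : ℕ} (hp : p.Prime) (h3 : 3 < p) :
    2 ≤ twoPart (p + 1) ∧ 2 ≤ twoPart (p - 1) ∧ (twoPart (p + 1) = 2 ∨ twoPart (p - 1) = 2) ∧
    twoPart ((p + 1) * (p * (p - 1))) = twoPart (p + 1) * twoPart (p - 1) ∧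
    twoPart (p * (p - 1)) = twoPart (p - 1) := by
  obtain ⟨k, hk⟩ := hp.odd_of_ne_two (by omega)
  have h1 : twoPart (p * (p - 1)) = twoPart (p - 1) := by
    rw [twoPart_mul (by omega) (by omega), twoPart_of_odd (n := p) ⟨k, hk⟩, one_mul]
  refine ⟨two_le_twoPart (by omega) ⟨k + 1, by omega⟩, two_le_twoPart (by omega) ⟨k, by omega⟩, ?_, ?_, h1⟩
  · rcases Nat.even_or_odd k with ⟨r, hr⟩ | ⟨r, hr⟩
    · exact Or.inl (twoPart_eq_two (by omega))
    · exact Or.inr (twoPart_eq_two (by omega))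
  · rw [twoPart_mul (by omega) (Nat.mul_ne_zero (by omega) (by omega)), h1]

theorem twoPart_lcm {a b : ℕ} (ha : a ≠ 0) (hb : b ≠ 0) :
    twoPart (Nat.lcm a b) = max (twoPart a) (twoPart b) := by
  rw [twoPart, twoPart, twoPart, Nat.factorization_lcm ha hb, Finsupp.sup_apply]
  rcases le_total (a.factorization 2) (b.factorization 2) with h | h
  · rw [max_eq_right (Nat.pow_le_pow_right two_pos h), sup_of_le_right h]
  · rw [max_eq_left (Nat.pow_le_pow_right two_pos h), sup_of_le_left h]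

theorem card_mul_inf {G : Type*} [Group G] [Finite G] {A B : Subgroup G}
    (hAB : ∀ g : G, ∃ a ∈ A, ∃ b ∈ B, g = a * b) : Nat.card G ∣ Nat.card A * Nat.card B := by
  have h : B.index = (B.subgroupOf A).index := by
    refine (Nat.card_eq_of_bijective (Quotient.map' (fun a : A => (a : G)) ?_) ⟨?_, ?_⟩).symm
    · intro a b hab
      rw [QuotientGroup.leftRel_apply] at hab ⊢
      exact hab
    · intro x y
      refine Quotient.inductionOn₂' x y fun a b hab => Quotient.sound' ?_
      have h1 := Quotient.exact' hab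
      rw [QuotientGroup.leftRel_apply] at h1 ⊢
      exact h1
    · intro x
      obtain ⟨g, rfl⟩ := QuotientGroup.mk_surjective x
      obtain ⟨a, ha, b, hb, rfl⟩ := hAB g
      refine ⟨((⟨a, ha⟩ : A) : A ⧸ B.subgroupOf A), Quotient.sound' ?_⟩
      rw [QuotientGroup.leftRel_apply, ← mul_assoc, inv_mul_cancel, one_mul]
      exact hb
  rw [← B.index_mul_card, h]
  exact mul_dvd_mul_right (Subgroup.index_dvd_card _) _

theorem map_cover {G H : Type*} [Group G] [Group H] (f : G →* H) (hf : Function.Surjective f)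
    {A B : Subgroup G} (hAB : ∀ g : G, ∃ a ∈ A, ∃ b ∈ B, g = a * b) :
    ∀ h : H, ∃ a ∈ A.map f, ∃ b ∈ B.map f, h = a * b := by
  intro h
  obtain ⟨g, rfl⟩ := hf h
  obtain ⟨a, ha, b, hb, rfl⟩ := hAB g
  exact ⟨f a, ⟨a, ha, rfl⟩, f b, ⟨b, hb, rfl⟩, map_mul f a b⟩

theorem map_zgroup {G H : Type*} [Group G] [Group H] [Finite G] (f : G →* H) (B : Subgroup G)
    (hB : IsZGroup B) : IsZGroup (B.map f) :=
  IsZGroup.of_surjective (f := f.subgroupMap B) (f.subgroupMap_surjective B)

theorem map_cyclic {G H : Type*} [Group G] [Group H] (f : G →* H) (A : Subgroup G)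
    (hA : IsCyclic A) : IsCyclic (A.map f) :=
  isCyclic_of_surjective (f.subgroupMap A) (f.subgroupMap_surjective A)

theorem radical_quot {G : Type*} [Group G] [Finite G] (R : Subgroup G) [R.Normal] (hRs : Group.IsSolvable R)
    (hRmax : ∀ N : Subgroup G, N.Normal → Group.IsSolvable N → N ≤ R) :
    ∀ N : Subgroup (G ⧸ R), N.Normal → Group.IsSolvable N → N = ⊥ := by
  intro N hN hNs
  haveI := hRs
  haveI := hNs
  let f : N.comap (QuotientGroup.mk' R) →* N := ((QuotientGroup.mk' R).comp (Subgroup.subtype _)).codRestrict N fun x => x.2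
  have hs : Group.IsSolvable (N.comap (QuotientGroup.mk' R)) := by
    refine Group.isSolvable_of_ker_le_range (Subgroup.inclusion (fun x hx => show (QuotientGroup.mk' R) x ∈ N by
      rw [show (QuotientGroup.mk' R) x = 1 from (QuotientGroup.eq_one_iff x).2 hx]; exact N.one_mem)) f ?_
    intro x hx
    have h1 : (QuotientGroup.mk' R) x.1 = 1 := congrArg Subtype.val (MonoidHom.mem_ker.1 hx)
    exact ⟨⟨x.1, (QuotientGroup.eq_one_iff _).1 h1⟩, Subtype.ext rfl⟩
  rw [← Subgroup.map_comap_eq_self_of_surjective (QuotientGroup.mk'_surjective R) N, Subgroup.map_eq_bot_iff,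
    QuotientGroup.ker_mk']
  exact hRmax _ (hN.comap _) hs

theorem not_solvable_quot {G : Type*} [Group G] (R : Subgroup G) [R.Normal] (hRs : Group.IsSolvable R)
    (hG : ¬ Group.IsSolvable G) : ¬ Group.IsSolvable (G ⧸ R) := fun h =>
  hG (haveI := hRs; haveI := h; Group.isSolvable_of_ker_le_range R.subtype (QuotientGroup.mk' R) (by simp))

theorem arith_false {a b c d : ℕ} (ha : 2 ≤ a) (hb : 2 ≤ b) (hc : 2 ≤ c) (hd : 2 ≤ d)
    (hab : a = 2 ∨ b = 2) (hcd : c = 2 ∨ d = 2) (h : a * b * (c * d) ≤ 2 * (max a c * max b d)) : False := by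
  rcases hab with rfl | rfl <;> rcases hcd with rfl | rfl
  · rw [max_self] at h
    rcases le_total b d with h1 | h1
    · rw [max_eq_right h1] at h; nlinarith
    · rw [max_eq_left h1] at h; nlinarith
  · rw [max_eq_right hc, max_eq_left hb] at h
    nlinarith
  · rw [max_eq_left ha, max_eq_right hd] at h
    nlinarith
  · rw [max_self] at h
    rcases le_total a c with h1 | h1
    · rw [max_eq_right h1] at h; nlinarith
    · rw [max_eq_left h1] at h; nlinarith

theorem isPGL_aux : ∀ (n : ℕ) (G : Type u) [Group G] [Finite G], Nat.card G = n →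
    ¬ Group.IsSolvable G → (∀ N : Subgroup G, N.Normal → Group.IsSolvable N → N = ⊥) →
    ∀ A B : Subgroup G, IsCyclic A → IsZGroup B → (∀ g : G, ∃ a ∈ A, ∃ b ∈ B, g = a * b) →
    ∃ (F : Type) (_ : Field F) (_ : Fintype F) (p : ℕ), p.Prime ∧ 3 < p ∧ Fintype.card F = p ∧
      Nonempty (G ≃* Matrix.ProjGenLinGroup (Fin 2) F) ∧ Nat.card A = p + 1 ∧ Nat.card B = p * (p - 1) ∧
      Nat.card G = (p + 1) * (p * (p - 1)) := by
  intro n
  induction n using Nat.strong_induction_on with
  | _ n ih =>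
  intro G _ _ hn hns hrad A B hA hB hAB
  classical
  haveI := hB
  have hBtop : B ≠ ⊤ := fun h => hns (by
    subst h
    haveI : IsZGroup G := IsZGroup.of_surjective (f := (Subgroup.topEquiv (G := G)).toMonoidHom)
      (Subgroup.topEquiv (G := G)).surjective
    infer_instance)
  obtain ⟨M, hM, hBM⟩ := (eq_top_or_exists_le_coatom B).resolve_left hBtop
  set Nc := M.normalCore with hNc
  have hNcM : Nc ≤ M := Subgroup.normalCore_le M
  have hcommA : ∀ x ∈ A, ∀ y ∈ A, x * y = y * x := by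
    intro x hx y hy
    letI := IsCyclic.commGroup (α := A)
    exact congrArg Subtype.val (mul_comm (⟨x, hx⟩ : A) ⟨y, hy⟩)
  have hAMNc : ∀ x ∈ A, x ∈ M → x ∈ Nc := by
    intro x hxA hxM g
    obtain ⟨a, ha, b, hb, he⟩ := hAB g⁻¹
    rw [show g = b⁻¹ * a⁻¹ by rw [← mul_inv_rev, ← he, inv_inv],
      show b⁻¹ * a⁻¹ * x * (b⁻¹ * a⁻¹)⁻¹ = b⁻¹ * (a⁻¹ * x * a) * b by group,
      show a⁻¹ * x * a = x by rw [mul_assoc, hcommA x hxA a ha, ← mul_assoc, inv_mul_cancel, one_mul]]
    exact M.mul_mem (M.mul_mem (M.inv_mem (hBM hb)) hxM) (hBM hb)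
  have hMdec : ∀ m ∈ M, ∃ a ∈ A, a ∈ Nc ∧ ∃ b ∈ B, m = a * b := by
    intro m hm
    obtain ⟨a, ha, b, hb, rfl⟩ := hAB m
    exact ⟨a, ha, hAMNc a ha ((Subgroup.mul_mem_cancel_right M (hBM hb)).1 hm), b, hb, rfl⟩
  have hAM : ∀ g : G, ∃ a ∈ A, ∃ m ∈ M, g = a * m := by
    intro g
    obtain ⟨a, ha, b, hb, rfl⟩ := hAB g
    exact ⟨a, ha, b, hBM hb, rfl⟩
  by_cases hbot : Nc = ⊥
  · have hMB : M = B := by
      refine le_antisymm (fun m hm => ?_) hBM
      obtain ⟨a, -, haN, b, hb, rfl⟩ := hMdec m hm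
      rw [hbot, Subgroup.mem_bot] at haN
      rw [haN, one_mul]
      exact hb
    subst hMB
    exact primitive_case hns A M hA hB hbot hM hAM
  exfalso
  haveI hNcn : Nc.Normal := Subgroup.normalCore_normal M
  have hNcns : ¬ Group.IsSolvable Nc := fun h => hbot (hrad Nc hNcn h)
  have hMns : ¬ Group.IsSolvable M := fun h => hNcns (by
    haveI := h
    exact Group.isSolvable_of_isSolvable_injective (f := Subgroup.inclusion hNcM) (Subgroup.inclusion_injective hNcM))
  have hMlt : Nat.card M < n := by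
    rw [← hn]
    refine lt_of_le_of_ne (Subgroup.card_le_card_group _) fun h => hM.1 (Subgroup.eq_top_of_card_eq _ h)
  -- the radical of the maximal subgroup
  set RM := Cfsg.solvableRadical M with hRMdef
  haveI : RM.Normal := Layer.solvableRadical_normal M
  have hRMs : Group.IsSolvable RM := Layer.solvableRadical_isSolvable
  have hdisj : ∀ x : M, x ∈ RM → (x : G) ∈ Nc → x = 1 := by
    intro x hxR hxN
    let X : Subgroup Nc := RM.comap (Subgroup.inclusion hNcM)
    have hXn : X.Normal := Subgroup.Normal.comap inferInstance _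
    have hXs : Group.IsSolvable X := by
      haveI := hRMs
      exact Group.isSolvable_of_isSolvable_injective
        (f := ((Subgroup.inclusion hNcM).comp X.subtype).codRestrict RM (fun y => y.2))
        (fun a b hab => Subtype.ext (Subgroup.inclusion_injective hNcM (congrArg Subtype.val hab)))
    haveI : Group.IsSolvable (Cfsg.solvableRadical Nc) := Layer.solvableRadical_isSolvable
    haveI : Group.IsSolvable ((Cfsg.solvableRadical Nc).map Nc.subtype) :=
      CfsgLib.Coprime.isSolvable_map _ Layer.solvableRadical_isSolvable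
    have h1 := hrad _ (PSolvable.normal_map_of_characteristic Nc (Cfsg.solvableRadical Nc)) inferInstance
    rw [Subgroup.map_eq_bot_iff_of_injective _ Nc.subtype_injective] at h1
    have h2 : (⟨x, hxN⟩ : Nc) ∈ X := hxR
    have h3 := Layer.le_solvableRadical hXn hXs h2
    rw [h1, Subgroup.mem_bot] at h3
    exact Subtype.ext (congrArg Subtype.val h3 :)
  let π : M →* M ⧸ RM := QuotientGroup.mk' RM
  have hπ := QuotientGroup.mk'_surjective RM
  obtain ⟨F, hF, hFf, p, hp, hp3, hcF, ⟨e⟩, -, -, -⟩ := ih (Nat.card (M ⧸ RM))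
    (lt_of_le_of_lt (Nat.card_le_card_of_surjective π hπ) hMlt) (M ⧸ RM) rfl (not_solvable_quot RM hRMs hMns)
    (radical_quot RM hRMs fun N hN hNs => Layer.le_solvableRadical hN hNs)
    ((A.subgroupOf M).map π) ((B.subgroupOf M).map π)
    (map_cyclic π _ (by
      haveI := hA
      exact isCyclic_of_injective (((M.subtype).comp (A.subgroupOf M).subtype).codRestrict A fun x => x.2)
        (fun a b hab => Subtype.ext (Subtype.ext (congrArg Subtype.val hab :)))))
    (map_zgroup π _ (IsZGroup.of_injective (f := (Subgroup.subgroupOfEquivOfLe hBM).toMonoidHom)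
      (Subgroup.subgroupOfEquivOfLe hBM).injective))
    (map_cover π hπ fun m => by
      obtain ⟨a, ha, haN, b, hb, he⟩ := hMdec m m.2
      exact ⟨⟨a, hNcM haN⟩, ha, ⟨b, hBM hb⟩, hb, Subtype.ext he⟩)
  let φ : M →* Matrix.ProjGenLinGroup (Fin 2) F := e.toMonoidHom.comp π
  have hφs : Function.Surjective φ := e.surjective.comp hπ
  have hφk : ∀ x : M, φ x = 1 → x ∈ RM := fun x hx =>
    (QuotientGroup.eq_one_iff x).1 (e.injective (hx.trans e.map_one.symm))
  haveI : Finite (Matrix.ProjGenLinGroup (Fin 2) F) := Finite.of_surjective φ hφs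
  obtain ⟨I, hT⟩ := almostSimple_pgl hp hp3 hcF
  -- the derived group of the core
  let N0 : Subgroup G := ⁅Nc, Nc⁆
  haveI hN0n : N0.Normal := Subgroup.commutator_normal _ _
  have hN0le : N0 ≤ Nc := Subgroup.commutator_le_self Nc
  let NcM : Subgroup M := Nc.subgroupOf M
  have hinjN : ∀ x y : M, (x : G) ∈ Nc → (y : G) ∈ Nc → φ x = φ y → x = y := by
    intro x y hx hy hxy
    refine mul_inv_eq_one.1 (hdisj _ (hφk _ (by rw [map_mul, map_inv, hxy, mul_inv_cancel])) ?_)
    push_cast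
    exact Nc.mul_mem hx (Nc.inv_mem hy)
  have hX : ⁅NcM.map φ, NcM.map φ⁆ = I := by
    refine hT.derived _ (Subgroup.Normal.map inferInstance φ hφs) fun hs => hNcns ?_
    haveI := hs
    refine Group.isSolvable_of_isSolvable_injective
      (f := ((φ.comp (Subgroup.inclusion hNcM)).codRestrict (NcM.map φ)
        (fun x => ⟨Subgroup.inclusion hNcM x, x.2, rfl⟩))) ?_
    intro x y hxy
    exact Subgroup.inclusion_injective hNcM (hinjN _ _ x.2 y.2 (congrArg Subtype.val hxy))
  have hN0eq : ∀ x : M, (x : G) ∈ N0 ↔ x ∈ ⁅NcM, NcM⁆ := by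
    intro x
    have h1 : (⁅NcM, NcM⁆).map M.subtype = N0 := by
      rw [Subgroup.map_commutator, Subgroup.map_subgroupOf_eq_of_le hNcM]
    rw [← h1]
    exact ⟨fun ⟨y, hy, he⟩ => (Subtype.ext he : y = x) ▸ hy, fun h => ⟨x, h, rfl⟩⟩
  have hI : ∀ y, y ∈ I ↔ ∃ x : M, (x : G) ∈ N0 ∧ φ x = y := by
    intro y
    rw [← hX, ← Subgroup.map_commutator]
    exact ⟨fun ⟨x, hx, he⟩ => ⟨x, (hN0eq x).2 hx, he⟩, fun ⟨x, hx, he⟩ => ⟨x, (hN0eq x).1 hx, he⟩⟩
  let j : N0 →* I := ((φ.comp (Subgroup.inclusion (hN0le.trans hNcM)))).codRestrict I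
    fun x => (hI _).2 ⟨_, x.2, rfl⟩
  have hjb : Function.Bijective j := by
    refine ⟨fun x y hxy => ?_, fun y => ?_⟩
    · exact Subgroup.inclusion_injective (hN0le.trans hNcM)
        (hinjN _ _ (hN0le x.2) (hN0le y.2) (congrArg Subtype.val hxy))
    · obtain ⟨x, hx, he⟩ := (hI y.1).1 y.2
      exact ⟨⟨x, hx⟩, Subtype.ext he⟩
  let jE := MulEquiv.ofBijective j hjb
  obtain ⟨au⟩ := hT.aut
  let θ : G →* Matrix.ProjGenLinGroup (Fin 2) F :=
    ((MulAut.congr jE).trans au).toMonoidHom.comp MulAut.conjNormal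
  have hθker : ∀ x : G, θ x = 1 → ∀ y ∈ N0, x * y = y * x := by
    intro x hx y hy
    have h1 : (MulAut.conjNormal x : MulAut N0) = 1 :=
      ((MulAut.congr jE).trans au).injective (hx.trans (map_one _).symm)
    have h2 := congrArg Subtype.val (congrArg (fun q : MulAut N0 => q ⟨y, hy⟩) h1)
    simp only [MulAut.conjNormal_apply, MulAut.one_apply] at h2
    exact mul_inv_eq_iff_eq_mul.1 h2
  set C := θ.ker with hC
  have hCM : ∀ x : M, θ x = 1 → φ x = 1 := by
    intro x hx
    refine hT.cent _ fun y hy => ?_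
    obtain ⟨w, hw, rfl⟩ := (hI y).1 hy
    rw [← map_mul, ← map_mul]
    exact congrArg φ (Subtype.ext (hθker _ hx _ hw))
  have hCNc : ∀ x ∈ C, x ∈ Nc → x = 1 := fun x hx hxN =>
    congrArg Subtype.val (hdisj ⟨x, hNcM hxN⟩ (hφk _ (hCM ⟨x, hNcM hxN⟩ hx)) hxN)
  have hTM : Nat.card (Matrix.ProjGenLinGroup (Fin 2) F) ≤ Nat.card M :=
    Nat.card_le_card_of_surjective φ hφs
  have hθs : Function.Surjective θ := by
    let θM := θ.comp M.subtype
    have h1 : θM.ker ≤ φ.ker := fun x hx => hCM x hx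
    have h2 : Nat.card (Matrix.ProjGenLinGroup (Fin 2) F) ≤ Nat.card θM.range := by
      have e1 : φ.ker.index = Nat.card (Matrix.ProjGenLinGroup (Fin 2) F) := by
        rw [Subgroup.index_ker, MonoidHom.range_eq_top.2 hφs, Subgroup.card_top]
      rw [← e1, ← Subgroup.index_ker]
      exact Nat.le_of_dvd (Nat.pos_of_ne_zero Subgroup.index_ne_zero_of_finite) (Subgroup.index_dvd_of_le h1)
    have h3 : θM.range ≤ θ.range := by
      rintro y ⟨x, rfl⟩
      exact ⟨x, rfl⟩
    have h4 : θ.range = ⊤ := Subgroup.eq_top_of_le_card _ (h2.trans (Nat.le_of_dvd Nat.card_pos (Subgroup.card_dvd_of_le h3)))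
    exact MonoidHom.range_eq_top.1 h4
  have hTlt : Nat.card (Matrix.ProjGenLinGroup (Fin 2) F) < n := lt_of_le_of_lt hTM hMlt
  have hCne : C ≠ ⊥ := fun h => by
    have hinj : Function.Injective θ := (MonoidHom.ker_eq_bot_iff θ).1 h
    exact absurd (Nat.card_le_card_of_injective θ hinj) (by omega)
  -- the action on the cosets of the maximal subgroup
  let Gq := G ⧸ Nc
  let σ : G →* Gq := QuotientGroup.mk' Nc
  have hσ : Function.Surjective σ := QuotientGroup.mk'_surjective Nc
  have hGqns : ¬ Group.IsSolvable Gq := by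
    intro h
    haveI := h
    refine hCne (hrad C inferInstance ?_)
    refine Group.isSolvable_of_isSolvable_injective (f := σ.comp C.subtype) ?_
    rw [injective_iff_map_eq_one]
    exact fun x hx => Subtype.ext (hCNc x x.2 ((QuotientGroup.eq_one_iff (x : G)).1 hx))
  have hMq : M.map σ = B.map σ := by
    refine le_antisymm ?_ (Subgroup.map_mono hBM)
    rintro y ⟨m, hm, rfl⟩
    obtain ⟨a, -, haN, b, hb, rfl⟩ := hMdec m hm
    refine ⟨b, hb, ?_⟩
    rw [map_mul, show σ a = 1 from (QuotientGroup.eq_one_iff a).2 haN, one_mul]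
  have hcomap : (M.map σ).comap σ = M :=
    Subgroup.comap_map_eq_self (by rw [QuotientGroup.ker_mk']; exact hNcM)
  have hcoreq : (M.map σ).normalCore = ⊥ := by
    have h1 : ((M.map σ).normalCore).comap σ ≤ Nc := by
      haveI : (((M.map σ).normalCore).comap σ).Normal := Subgroup.Normal.comap inferInstance _
      refine Subgroup.normal_le_normalCore.2 ?_
      calc ((M.map σ).normalCore).comap σ ≤ (M.map σ).comap σ := Subgroup.comap_mono (Subgroup.normalCore_le _)
        _ = M := hcomap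
    rw [← Subgroup.map_comap_eq_self_of_surjective hσ ((M.map σ).normalCore), Subgroup.map_eq_bot_iff,
      QuotientGroup.ker_mk']
    exact h1
  have hcoat : IsCoatom (M.map σ) := by
    refine ⟨fun h => hM.1 (by rw [← hcomap, h, Subgroup.comap_top]), fun K hK => ?_⟩
    have h1 : M < K.comap σ := by
      refine lt_of_le_of_ne ?_ fun he => hK.ne ?_
      · conv_lhs => rw [← hcomap]
        exact Subgroup.comap_mono hK.le
      · rw [← Subgroup.map_comap_eq_self_of_surjective hσ K, ← he]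
    rw [← Subgroup.map_comap_eq_self_of_surjective hσ K, hM.2 _ h1, Subgroup.map_top_of_surjective σ hσ]
  obtain ⟨F', hF', hFf', q, hq, hq3, -, -, hAq, hBq, hGq⟩ := primitive_case hGqns (A.map σ) (M.map σ)
    (map_cyclic σ A hA) (hMq ▸ map_zgroup σ B hB) hcoreq hcoat (map_cover σ hσ hAM)
  obtain ⟨F'', hF'', hFf'', p', hp', hp'3, -, -, hA1, hB1, hT1⟩ := ih _ hTlt
    (ULift.{u} (Matrix.ProjGenLinGroup (Fin 2) F)) (Nat.card_congr Equiv.ulift)
    (fun hs => hMns (by
      haveI := hRMs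
      haveI : Group.IsSolvable (M ⧸ RM) := by
        haveI := hs
        exact Group.isSolvable_of_isSolvable_injective (f := (e.trans MulEquiv.ulift.symm).toMonoidHom)
          (e.trans MulEquiv.ulift.symm).injective
      exact Group.isSolvable_of_ker_le_range RM.subtype π (by simp [π])))
    (fun N hN hNs => by
      have hh := (hT.of_mulEquiv MulEquiv.ulift.symm).rad N hN hNs
      exact hh)
    (A.map ((MulEquiv.ulift.{0, u}).symm.toMonoidHom.comp θ))
    (B.map ((MulEquiv.ulift.{0, u}).symm.toMonoidHom.comp θ))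
    (map_cyclic _ A hA) (map_zgroup _ B hB)
    (map_cover _ ((MulEquiv.ulift.{0, u}).symm.surjective.comp hθs) hAB)
  let up : Matrix.ProjGenLinGroup (Fin 2) F →* ULift.{u} (Matrix.ProjGenLinGroup (Fin 2) F) :=
    (MulEquiv.ulift.{0, u}).symm.toMonoidHom
  have hup : Function.Injective up := fun x y h => (congrArg ULift.down h :)
  have hA1' : Nat.card (A.map θ) = p' + 1 := by
    rw [← Subgroup.card_map_of_injective (K := A.map θ) (f := up) hup, Subgroup.map_map]
    exact hA1
  have hB1' : Nat.card (B.map θ) = p' * (p' - 1) := by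
    rw [← Subgroup.card_map_of_injective (K := B.map θ) (f := up) hup, Subgroup.map_map]
    exact hB1
  have hT1' : Nat.card (Matrix.ProjGenLinGroup (Fin 2) F) = (p' + 1) * (p' * (p' - 1)) := by
    rw [← hT1, Nat.card_congr Equiv.ulift]
  rw [hMq] at hBq
  -- two-parts
  obtain ⟨ha2, hb2, hab, hTtwo, hBtwo⟩ := pgl_parts hp' hp'3
  obtain ⟨hc2, hd2, hcd, hGqtwo, hBqtwo⟩ := pgl_parts hq hq3
  refine arith_false ha2 hb2 hc2 hd2 hab hcd ?_
  have hpow : ∀ (H : Subgroup G) (x : G), x ∈ H →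
      x ^ Nat.lcm (Nat.card (H.map θ)) (Nat.card (H.map σ)) = 1 := by
    intro H x hx
    obtain ⟨k, hk⟩ := Nat.dvd_lcm_left (Nat.card (H.map θ)) (Nat.card (H.map σ))
    obtain ⟨l, hl⟩ := Nat.dvd_lcm_right (Nat.card (H.map θ)) (Nat.card (H.map σ))
    refine hCNc _ ?_ ?_
    · have h1 : (θ x) ^ Nat.card (H.map θ) = 1 := orderOf_dvd_iff_pow_eq_one.1
        (Subgroup.orderOf_dvd_natCard _ ⟨x, hx, rfl⟩)
      rw [hC, MonoidHom.mem_ker, map_pow, hk, pow_mul, h1, one_pow]
    · have h1 : (σ x) ^ Nat.card (H.map σ) = 1 := orderOf_dvd_iff_pow_eq_one.1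
        (Subgroup.orderOf_dvd_natCard _ ⟨x, hx, rfl⟩)
      refine (QuotientGroup.eq_one_iff _).1 (show σ _ = 1 from ?_)
      rw [map_pow, hl, pow_mul, h1, one_pow]
  have hA2 : twoPart (Nat.card A) ≤ max (twoPart (p' + 1)) (twoPart (q + 1)) := by
    obtain ⟨a0, ha0⟩ := hA.exists_generator
    have h1 : orderOf (a0 : G) = Nat.card A := by
      rw [Subgroup.orderOf_coe, orderOf_eq_card_of_forall_mem_zpowers ha0]
    have h2 := orderOf_dvd_of_pow_eq_one (hpow A a0 a0.2)
    rw [h1, hA1', hAq] at h2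
    rw [← twoPart_lcm (by omega) (by omega)]
    exact Nat.le_of_dvd (twoPart_pos _) (twoPart_mono (Nat.lcm_pos (by omega) (by omega)).ne' h2)
  have hB2 : twoPart (Nat.card B) ≤ max (twoPart (p' - 1)) (twoPart (q - 1)) := by
    haveI := Fact.mk Nat.prime_two
    obtain ⟨Q, -, hQ, hQp, hQc⟩ := exists_two_subgroup (H := B) (Q := ⊥) IsPGroup.of_bot bot_le
    haveI : IsZGroup Q := IsZGroup.of_injective (f := Subgroup.inclusion hQ) (Subgroup.inclusion_injective hQ)
    haveI := hQp.isNilpotent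
    obtain ⟨b0, hb0⟩ := IsCyclic.exists_generator (α := Q)
    have h1 : orderOf (b0 : G) = twoPart (Nat.card B) := by
      rw [Subgroup.orderOf_coe, orderOf_eq_card_of_forall_mem_zpowers hb0, hQc]
    have h2 := orderOf_dvd_of_pow_eq_one (hpow B b0 (hQ b0.2))
    rw [h1, hB1', hBq] at h2
    have h3 : 0 < Nat.lcm (p' * (p' - 1)) (q * (q - 1)) :=
      Nat.lcm_pos (Nat.mul_pos (by omega) (by omega)) (Nat.mul_pos (by omega) (by omega))
    have h4 := twoPart_mono h3.ne' h2
    rw [twoPart_twoPart, twoPart_lcm (Nat.mul_ne_zero (by omega) (by omega)) (Nat.mul_ne_zero (by omega) (by omega)),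
      hBtwo, hBqtwo] at h4
    exact Nat.le_of_dvd (lt_max_of_lt_left (twoPart_pos _)) h4
  have hG2 : twoPart (Nat.card G) = twoPart (Nat.card Nc) * twoPart (Nat.card Gq) := by
    rw [← Nc.card_mul_index, twoPart_mul Nat.card_pos.ne' Subgroup.index_ne_zero_of_finite]
    rfl
  have hN2 : twoPart (Nat.card (Matrix.ProjGenLinGroup (Fin 2) F)) ≤ 2 * twoPart (Nat.card Nc) := by
    have h1 := I.card_mul_index
    have hile : I.index ≤ 2 := by
      have h2 := hT.index_le
      rw [← h1, mul_comm 2] at h2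
      exact Nat.le_of_mul_le_mul_left h2 Nat.card_pos
    rw [← h1, twoPart_mul Nat.card_pos.ne' Subgroup.index_ne_zero_of_finite, mul_comm 2]
    refine Nat.mul_le_mul (Nat.le_of_dvd (twoPart_pos _) (twoPart_mono Nat.card_pos.ne' ?_))
      (le_trans (Nat.le_of_dvd (Nat.pos_of_ne_zero Subgroup.index_ne_zero_of_finite) (twoPart_dvd _)) hile)
    rw [← Nat.card_congr jE.toEquiv]
    exact Subgroup.card_dvd_of_le hN0le
  have hAB2 : twoPart (Nat.card G) ≤ twoPart (Nat.card A) * twoPart (Nat.card B) := by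
    rw [← twoPart_mul Nat.card_pos.ne' Nat.card_pos.ne']
    exact Nat.le_of_dvd (twoPart_pos _)
      (twoPart_mono (Nat.mul_ne_zero Nat.card_pos.ne' Nat.card_pos.ne') (card_mul_inf hAB))
  have hq2 : twoPart (Nat.card Gq) = twoPart (q + 1) * twoPart (q - 1) := by rw [← hGqtwo, ← hGq]
  rw [hT1', hTtwo] at hN2
  calc twoPart (p' + 1) * twoPart (p' - 1) * (twoPart (q + 1) * twoPart (q - 1))
      ≤ 2 * twoPart (Nat.card Nc) * twoPart (Nat.card Gq) := by rw [hq2]; exact Nat.mul_le_mul_right _ hN2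
    _ = 2 * twoPart (Nat.card G) := by rw [hG2, mul_assoc]
    _ ≤ _ := Nat.mul_le_mul_left _ (hAB2.trans (Nat.mul_le_mul hA2 hB2))

theorem quotient_isPGL {G : Type u} [Group G] [Finite G] (hG : ¬ Group.IsSolvable G) (A B : Subgroup G)
    (hA : IsCyclic A) (hB : IsZGroup B) (hAB : ∀ g : G, ∃ a ∈ A, ∃ b ∈ B, g = a * b)
    (R : Subgroup G) [R.Normal] (hRs : Group.IsSolvable R)
    (hRmax : ∀ N : Subgroup G, N.Normal → Group.IsSolvable N → N ≤ R) :
    ∃ (F : Type) (_ : Field F) (_ : Fintype F) (p : ℕ), p.Prime ∧ 3 < p ∧ Fintype.card F = p ∧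
      Nonempty ((G ⧸ R) ≃* Matrix.ProjGenLinGroup (Fin 2) F) := by
  have hσ := QuotientGroup.mk'_surjective R
  obtain ⟨F, hF, hFf, p, hp, hp3, hc, he, -, -, -⟩ := isPGL_aux _ (G ⧸ R) rfl (not_solvable_quot R hRs hG)
    (radical_quot R hRs hRmax) (A.map (QuotientGroup.mk' R)) (B.map (QuotientGroup.mk' R))
    (map_cyclic _ A hA) (map_zgroup _ B hB) (map_cover _ hσ hAB)
  exact ⟨F, hF, hFf, p, hp, hp3, hc, he⟩

end CfsgLib.CycZ
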