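import Cfsg.Agent.Lib.CycZFactor.Hyp
import Mathlib.RingTheory.IntegralDomain
import Mathlib.FieldTheory.Finite.Basic

/-!
The case in which a two-point involution fixes exactly two points.
-/

namespace CfsgLib.CycZ

set_option linter.unusedSectionVars false
set_option linter.unusedVariables false
set_option linter.style.haveILetI false

open Equiv

/-- A multiplicative order coprime to the odd modulus is small, unless the modulus is prime. -/
theorem order_bound {a : ℕ} (ha : Odd a) (h3 : 3 ≤ a) (u : ZMod a) (hpos : 0 < orderOf u)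
    (hcop : (orderOf u).Coprime a) :
    a.Prime ∧ orderOf u ∣ a - 1 ∨ 2 * orderOf u < a := by
  have hu : IsUnit u := IsUnit.of_pow_eq_one (pow_orderOf_eq_one u) hpos.ne'
  obtain ⟨v, rfl⟩ := hu
  rw [orderOf_units] at hpos hcop ⊢
  by_cases hp : a.Prime
  · haveI := Fact.mk hp
    exact Or.inl ⟨hp, ZMod.orderOf_units_dvd_card_sub_one v⟩
  right
  by_cases hpp : IsPrimePow a
  · obtain ⟨r, k, hr, hk, rfl⟩ := hpp
    have hr' := hr.nat_prime
    have hd : orderOf v ∣ r ^ (k - 1) * (r - 1) := by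
      rw [← Nat.totient_prime_pow hr' hk]
      exact orderOf_dvd_of_pow_eq_one (ZMod.pow_totient v)
    have hd1 : orderOf v ∣ r - 1 :=
      ((Nat.coprime_pow_right_iff hk _ _).1 hcop |>.pow_right (k - 1)).dvd_of_dvd_mul_left hd
    have hle := Nat.le_of_dvd (by have := hr'.two_le; omega) hd1
    have hk2 : 2 ≤ k := by
      by_contra hk2
      have : k = 1 := by omega
      rw [this, pow_one] at hp
      exact hp hr'
    have : r ^ 2 ≤ r ^ k := Nat.pow_le_pow_right hr'.pos hk2
    have hr2 := hr'.two_le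
    have : 2 * (r - 1) < r ^ 2 := by
      obtain ⟨s, rfl⟩ : ∃ s, r = s + 1 := ⟨r - 1, by omega⟩
      simp only [Nat.add_sub_cancel]
      nlinarith
    omega
  · have hr := Nat.minFac_prime (show a ≠ 1 by omega)
    set r := a.minFac with hrdef
    have ha0 : a ≠ 0 := by omega
    set m := r ^ a.factorization r with hm
    set m' := a / r ^ a.factorization r with hm'
    have hmm : m * m' = a := Nat.ordProj_mul_ordCompl_eq_self a r
    have hco : m.Coprime m' := (Nat.coprime_ordCompl hr ha0).pow_left _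
    have hm1 : 1 < m := Nat.one_lt_pow (hr.factorization_pos_of_dvd ha0 (Nat.minFac_dvd a)).ne' hr.one_lt
    have hm'1 : 1 < m' := by
      rcases Nat.lt_or_ge 1 m' with h | h
      · exact h
      exfalso
      interval_cases hc : m'
      · omega
      · rw [mul_one] at hmm
        exact hpp ⟨r, _, hr.prime, hr.factorization_pos_of_dvd ha0 (Nat.minFac_dvd a), hmm⟩
    have hodd : Odd m ∧ Odd m' := Nat.odd_mul.1 (hmm.symm ▸ ha)
    have hev : ∀ q : ℕ, 1 < q → Odd q → 2 ∣ q.totient := by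
      intro q h1 h2
      refine even_iff_two_dvd.1 (Nat.totient_even ?_)
      obtain ⟨s, rfl⟩ := h2
      omega
    obtain ⟨c', hc'⟩ := hev m' hm'1 hodd.2
    obtain ⟨c, hc⟩ := hev m hm1 hodd.1
    let e : ZMod a ≃+* ZMod m × ZMod m' :=
      (ZMod.ringEquivCongr hmm.symm).trans (ZMod.chineseRemainder hco)
    let v1 : (ZMod m)ˣ := Units.map ((RingHom.fst _ _).comp e.toRingHom).toMonoidHom v
    let v2 : (ZMod m')ˣ := Units.map ((RingHom.snd _ _).comp e.toRingHom).toMonoidHom v
    have hone : v ^ (m.totient * c') = 1 := by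
      refine Units.ext (e.injective (Prod.ext ?_ ?_))
      · have h := congrArg Units.val (show v1 ^ (m.totient * c') = 1 by
          rw [pow_mul, ZMod.pow_totient, one_pow])
        simpa [v1] using h
      · have h := congrArg Units.val (show v2 ^ (m.totient * c') = 1 by
          rw [show m.totient * c' = m'.totient * c by rw [hc, hc']; ring, pow_mul, ZMod.pow_totient, one_pow])
        simpa [v2] using h
    have hposc : 0 < m.totient * c' := by
      refine Nat.mul_pos (Nat.totient_pos.2 (by omega)) ?_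
      rcases Nat.eq_zero_or_pos c' with h | h
      · rw [h, mul_zero] at hc'
        exact absurd (Nat.totient_eq_zero.1 hc') (by omega)
      · exact h
    have hle := Nat.le_of_dvd hposc (orderOf_dvd_of_pow_eq_one hone)
    calc 2 * orderOf v ≤ 2 * (m.totient * c') := by omega
      _ = m.totient * m'.totient := by rw [hc']; ring
      _ < m * m' := Nat.mul_lt_mul_of_lt_of_le (Nat.totient_lt m hm1) (Nat.totient_le m') (by omega)
      _ = a := hmm

variable {Ω : Type*} [Finite Ω] {G : Subgroup (Perm Ω)}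

/-- An involution whose fixed point set is `{a, b}`. -/
structure Pair (G : Subgroup (Perm Ω)) (z : Perm Ω) (a b : Ω) : Prop where
  mem : z ∈ G
  order : orderOf z = 2
  ne : b ≠ a
  left : z a = a
  right : z b = b
  only : ∀ v, z v = v → v = a ∨ v = b

namespace Pair

variable {z : Perm Ω} {a b : Ω}

theorem transport (P : Pair G z a b) {g : Perm Ω} (hg : g ∈ G) :
    Pair G (g * z * g⁻¹) (g a) (g b) where
  mem := G.mul_mem (G.mul_mem hg P.mem) (G.inv_mem hg)
  order := by rw [← MulAut.conj_apply, MulEquiv.orderOf_eq, P.order]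
  ne h := P.ne (g.injective h)
  left := by simp [P.left]
  right := by simp [P.right]
  only v hv := by
    have h1 : z (g⁻¹ v) = g⁻¹ v := by
      simp only [Perm.mul_apply] at hv
      exact (Perm.inv_eq_iff_eq.2 hv.symm).symm
    rcases P.only _ h1 with h | h
    · exact Or.inl ((Perm.inv_eq_iff_eq.1 h))
    · exact Or.inr ((Perm.inv_eq_iff_eq.1 h))

theorem mem_D (P : Pair G z a b) : z ∈ st (st G a) b := mem_st.2 ⟨mem_st.2 ⟨P.mem, P.left⟩, P.right⟩

theorem exists_pair (P : Pair G z a b) (h : Hyp G) {c d : Ω} (hd : d ≠ c) : ∃ z', Pair G z' c d := by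
  obtain ⟨g, hg, rfl, rfl⟩ := h.two a b c d P.ne.symm hd.symm
  exact ⟨_, P.transport hg⟩

theorem ne_one (P : Pair G z a b) : z ≠ 1 := fun h => by simpa [h] using P.order

theorem inv_eq (P : Pair G z a b) : z⁻¹ = z :=
  inv_eq_of_mul_eq_one_left (by rw [← sq, ← P.order, pow_orderOf_eq_one])

theorem fix_of_commute (P : Pair G z a b) {w : Perm Ω} (hw : w a = a) (hc : Commute w z) : w b = b := by
  have h1 : z (w b) = w b := by rw [← Perm.mul_apply, ← hc.eq, Perm.mul_apply, P.right]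
  rcases P.only _ h1 with h | h
  · exact absurd (w.injective (h.trans hw.symm)) P.ne
  · exact h

theorem odd_order_der (P : Pair G z a b) (h : Hyp G) {q : Perm Ω} (hq : q ∈ Hyp.der G a) : Odd (orderOf q) := by
  by_contra hev
  rw [Nat.not_odd_iff_even] at hev
  obtain ⟨m, hm⟩ := hev
  have hm0 : m ≠ 0 := fun h0 => (orderOf_pos q).ne' (by omega)
  have ht : orderOf (q ^ m) = 2 := by
    rw [orderOf_pow' q hm0, Nat.gcd_eq_right ⟨2, by omega⟩, hm, ← two_mul,
      Nat.mul_div_cancel _ (Nat.pos_of_ne_zero hm0)]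
  have htK : q ^ m ∈ Hyp.der G a := Subgroup.pow_mem _ hq m
  have hcz : Commute (q ^ m) z := by
    have h1 := h.conj_der htK (mem_st.2 ⟨P.mem, P.left⟩)
    classical
    rw [mem_zpowers_iff_mem_range_orderOf, ht] at h1
    simp only [Finset.mem_image, Finset.mem_range] at h1
    obtain ⟨i, hi, he⟩ := h1
    interval_cases i
    · have h0 : q ^ m = 1 := conj_eq_one_iff.1 (he.symm.trans (pow_zero _))
      rw [h0, orderOf_one] at ht
      omega
    · rw [pow_one] at he
      exact (eq_mul_inv_iff_mul_eq.1 he)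
  obtain ⟨htG, hta⟩ := mem_st.1 (Hyp.der_le G a htK)
  have he := h.D_fixer_commute htG hta P.mem P.left ht P.order hcz
  rw [he] at htK
  exact P.ne_one (h.der_semireg htK P.ne P.right)

theorem inverts (P : Pair G z a b) (h : Hyp G) {k : Perm Ω} (hk : k ∈ Hyp.der G a) : z * k * z = k⁻¹ := by
  have hzk : z * k * z ∈ Subgroup.zpowers k := by
    have := h.conj_der hk (mem_st.2 ⟨P.mem, P.left⟩)
    rwa [P.inv_eq] at this
  obtain ⟨i, hi⟩ := hzk
  have hw : z * k * z * k ∈ Hyp.der G a := by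
    rw [← hi]
    exact Subgroup.mul_mem _ (Subgroup.zpow_mem _ hk i) hk
  have hcomm : Commute (z * k * z * k) z := by
    have hzz : z * z = 1 := by rw [← sq, ← P.order, pow_orderOf_eq_one]
    have hsw : z * k * z * k = k * (z * k * z) := by
      have hi' : k ^ i = z * k * z := hi
      rw [← hi']
      exact ((Commute.refl k).zpow_left i).eq
    show z * k * z * k * z = z * (z * k * z * k)
    calc z * k * z * k * z = k * (z * k * z) * z := by rw [hsw]
      _ = k * z * k * (z * z) := by group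
      _ = (z * z) * k * z * k := by rw [hzz, one_mul, mul_one]
      _ = z * (z * k * z * k) := by group
  have := h.der_semireg hw P.ne (P.fix_of_commute (mem_st.1 (Hyp.der_le G a hw)).2 hcomm)
  exact eq_inv_of_mul_eq_one_left this

theorem der_trans (P : Pair G z a b) (h : Hyp G) {y : Ω} (hy : y ≠ a) : ∃ k ∈ Hyp.der G a, k b = y := by
  obtain ⟨g, hg, hgb⟩ := h.trans_rest P.ne hy
  set q := g * z * g⁻¹ * z⁻¹ with hqdef
  have hq : q ∈ Hyp.der G a := Subgroup.commutator_mem_commutator hg (mem_st.2 ⟨P.mem, P.left⟩)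
  obtain ⟨j, hj⟩ := exists_half (P.odd_order_der h hq)
  refine ⟨q ^ j, Subgroup.pow_mem _ hq j, ?_⟩
  have hk := P.inverts h (Subgroup.pow_mem _ hq j)
  have hzz : z * z = 1 := by rw [← sq, ← P.order, pow_orderOf_eq_one]
  have hconj : q ^ j * z * (q ^ j)⁻¹ = g * z * g⁻¹ := by
    rw [← hk]
    calc q ^ j * z * (z * q ^ j * z) = q ^ j * (z * z) * q ^ j * z := by group
      _ = g * z * g⁻¹ := by
        rw [hzz, mul_one, ← pow_add, ← two_mul, hj, hqdef, inv_mul_cancel_right]
  have hc : Commute ((q ^ j)⁻¹ * g) z := by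
    show (q ^ j)⁻¹ * g * z = z * ((q ^ j)⁻¹ * g)
    have h1 : z = (q ^ j)⁻¹ * (g * z * g⁻¹) * q ^ j := by rw [← hconj]; group
    conv_rhs => rw [h1]
    group
  have := P.fix_of_commute (mem_st.1 ((st G a).mul_mem ((st G a).inv_mem ((Hyp.der_le G a) (Subgroup.pow_mem _ hq j))) hg)).2 hc
  rw [Perm.mul_apply, hgb, Perm.inv_eq_iff_eq] at this
  exact this.symm

theorem card_der (P : Pair G z a b) (h : Hyp G) : Nat.card (Hyp.der G a) = Nat.card Ω - 1 := by
  have hbot : st (Hyp.der G a) b = ⊥ := (Subgroup.eq_bot_iff_forall _).2 fun x hx =>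
    h.der_semireg (mem_st.1 hx).1 P.ne (mem_st.1 hx).2
  rw [card_eq_ncard_mul (Hyp.der G a) b ({a}ᶜ : Set Ω), hbot, Subgroup.card_bot, mul_one,
    Set.ncard_compl, Set.ncard_singleton]
  intro y
  refine ⟨fun hy => P.der_trans h hy, ?_⟩
  rintro ⟨k, hk, rfl⟩ he
  exact P.ne (k.injective (he.trans (mem_st.1 (Hyp.der_le G a hk)).2.symm))

theorem coprime_card (P : Pair G z a b) (h : Hyp G) :
    (Nat.card (st (st G a) b)).Coprime (Nat.card Ω - 1) := by
  haveI := h.zgroup a
  have h1 := IsZGroup.coprime_commutator_index (G := st G a)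
  have h2 := (commutator (st G a)).card_mul_index
  have h3 : Nat.card (commutator (st G a)) = Nat.card Ω - 1 := by
    rw [← P.card_der h, Hyp.der_eq, Subgroup.card_map_of_injective (st G a).subtype_injective]
  rw [h.card_st P.ne, h3] at h2
  rw [h3, Nat.eq_of_mul_eq_mul_left (by obtain ⟨k, hk⟩ := h.odd_pred; omega) h2] at h1
  exact h1.symm

theorem exists_swap_fix (P : Pair G z a b) (h : Hyp G) {y : Ω} (hy : y ≠ a) :
    ∃ s ∈ G, s a = a ∧ s b = y ∧ s y = b ∧ ∃ e, ∀ v, s v = v → v = a ∨ v = e := by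
  obtain ⟨q, hq, hqb⟩ := P.der_trans h hy
  obtain ⟨j, hj⟩ := exists_half (P.odd_order_der h hq)
  have hkK : q ^ j ∈ Hyp.der G a := Subgroup.pow_mem _ hq j
  obtain ⟨hkG, hka⟩ := mem_st.1 (Hyp.der_le G a hkK)
  have T := P.transport hkG
  have hzz : z * z = 1 := by rw [← sq, ← P.order, pow_orderOf_eq_one]
  have hb' : (q ^ j * z * (q ^ j)⁻¹) b = y := by
    have h1 : z * (q ^ j)⁻¹ = q ^ j * z := by
      rw [← P.inverts h hkK, show z * (z * q ^ j * z) = (z * z) * q ^ j * z by group, hzz, one_mul]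
    rw [mul_assoc, h1, Perm.mul_apply, Perm.mul_apply, P.right, ← Perm.mul_apply, ← pow_add,
      ← two_mul, hj, hqb]
  refine ⟨_, T.mem, ?_, hb', ?_, (q ^ j) b, fun v hv => ?_⟩
  · have := T.left
    rwa [hka] at this
  · have hsq : (q ^ j * z * (q ^ j)⁻¹) * (q ^ j * z * (q ^ j)⁻¹) = 1 := by
      rw [show q ^ j * z * (q ^ j)⁻¹ * (q ^ j * z * (q ^ j)⁻¹) = q ^ j * (z * z) * (q ^ j)⁻¹ by group,
        hzz, mul_one, mul_inv_cancel]
    have := congrArg (fun p : Perm Ω => p b) hsq
    simp only [Perm.mul_apply, Perm.one_apply] at this hb' ⊢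
    rw [hb'] at this
    exact this
  · rcases T.only v hv with h1 | h1
    · exact Or.inl (h1.trans hka)
    · exact Or.inr h1

theorem exists_unit (P : Pair G z a b) (h : Hyp G) :
    ∃ (k : Perm Ω) (u : ZMod (Nat.card Ω - 1)), k ∈ Hyp.der G a ∧ orderOf k = Nat.card Ω - 1 ∧
      (∀ x ∈ Hyp.der G a, x ∈ Subgroup.zpowers k) ∧ orderOf u = Nat.card (st (st G a) b) := by
  haveI := h.zgroup a
  have hcK : IsCyclic (Hyp.der G a) := by
    rw [Hyp.der_eq]
    haveI := IsZGroup.isCyclic_commutator (st G a)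
    exact isCyclic_of_surjective ((commutator (st G a)).equivMapOfInjective _ (st G a).subtype_injective).toMonoidHom
      (MulEquiv.surjective _)
  obtain ⟨k, hk⟩ := hcK.exists_generator
  have hord : orderOf (k : Perm Ω) = Nat.card Ω - 1 := by
    rw [← P.card_der h, Subgroup.orderOf_coe, orderOf_eq_card_of_forall_mem_zpowers hk]
  have hgen : ∀ x ∈ Hyp.der G a, x ∈ Subgroup.zpowers (k : Perm Ω) := by
    intro x hx
    obtain ⟨i, hi⟩ := hk ⟨x, hx⟩
    exact ⟨i, by simpa using congrArg Subtype.val hi⟩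
  haveI := h.isCyclic_D P.ne
  obtain ⟨d, hd⟩ := IsCyclic.exists_generator (α := st (st G a) b)
  have hdst : ∀ i : ℕ, (d : Perm Ω) ^ i ∈ st G a := fun i => (mem_st.1 (Subgroup.pow_mem _ d.2 i)).1
  obtain ⟨m, hm⟩ := Subgroup.mem_zpowers_iff.1 (hgen _ (by
    obtain ⟨i, hi⟩ := h.conj_der k.2 (mem_st.1 d.2).1
    exact hi ▸ Subgroup.zpow_mem _ k.2 i :
      (d : Perm Ω) * k * (d : Perm Ω)⁻¹ ∈ Hyp.der G a))
  have hiter : ∀ i : ℕ, (d : Perm Ω) ^ i * k * ((d : Perm Ω) ^ i)⁻¹ = (k : Perm Ω) ^ (m ^ i) := by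
    intro i
    induction i with
    | zero => simp
    | succ i ih =>
      rw [show (d : Perm Ω) ^ (i + 1) * k * ((d : Perm Ω) ^ (i + 1))⁻¹ =
        (d : Perm Ω) * ((d : Perm Ω) ^ i * k * ((d : Perm Ω) ^ i)⁻¹) * (d : Perm Ω)⁻¹ by group,
        ih, ← conj_zpow, ← hm, ← zpow_mul, pow_succ']
  refine ⟨k, (m : ZMod (Nat.card Ω - 1)), k.2, hord, hgen, ?_⟩
  have hdord : orderOf (d : Perm Ω) = Nat.card (st (st G a) b) := by
    rw [Subgroup.orderOf_coe, orderOf_eq_card_of_forall_mem_zpowers hd]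
  rw [← hdord]
  refine orderOf_eq_orderOf_iff.2 fun i => ?_
  have hiff : ((m : ZMod (Nat.card Ω - 1)) ^ i = 1) ↔ (k : Perm Ω) ^ (m ^ i) = k := by
    conv_rhs => rw [← mul_inv_eq_one]
    rw [← zpow_sub_one, ← orderOf_dvd_iff_zpow_eq_one, hord, ← ZMod.intCast_zmod_eq_zero_iff_dvd,
      Int.cast_sub, Int.cast_pow, Int.cast_one, sub_eq_zero]
  rw [hiff, ← hiter]
  constructor
  · intro he
    refine Equiv.ext fun y => ?_
    obtain ⟨-, hda⟩ := mem_st.1 (hdst i)
    by_cases hy : y = a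
    · rw [hy, hda]; rfl
    obtain ⟨x, hx, rfl⟩ := P.der_trans h hy
    obtain ⟨j, rfl⟩ := hgen x hx
    have hc : Commute ((d : Perm Ω) ^ i) (k : Perm Ω) := mul_inv_eq_iff_eq_mul.1 he
    rw [← Perm.mul_apply, (hc.zpow_right j).eq, Perm.mul_apply, (mem_st.1 (Subgroup.pow_mem _ d.2 i)).2]
    rfl
  · intro he
    simp [he]

theorem good (P : Pair G z a b) (h : Hyp G) : Good G := by
  classical
  haveI := Fintype.ofFinite Ω
  have hn4 : 4 ≤ Nat.card Ω := by
    obtain ⟨v, hv⟩ : ∃ v, z v ≠ v := by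
      by_contra hc
      push Not at hc
      exact P.ne_one (Equiv.ext hc)
    have hv1 : v ≠ a := fun he => hv (he ▸ P.left)
    have hv2 : v ≠ b := fun he => hv (he ▸ P.right)
    have h3 : ({a, b, v} : Finset Ω).card ≤ Fintype.card Ω := Finset.card_le_univ _
    rw [show ({a, b, v} : Finset Ω).card = 3 by simp [P.ne.symm, hv1.symm, hv2.symm]] at h3
    rw [Nat.card_eq_fintype_card]
    obtain ⟨k, hk⟩ := h.even
    rw [Nat.card_eq_fintype_card] at hk
    omega
  have hmain : ∀ a b : Ω, b ≠ a → (Nat.card Ω - 1).Prime ∧ Nat.card (st (st G a) b) = Nat.card Ω - 2 := by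
    intro a b hba
    obtain ⟨z, Q⟩ := P.exists_pair h hba
    -- involutions interchanging a and b
    let S : Finset Ω := Finset.univ \ {a, b}
    have hS : S.card = Nat.card Ω - 2 := by
      rw [Finset.card_sdiff_of_subset (Finset.subset_univ _), Finset.card_univ, Nat.card_eq_fintype_card]
      simp [hba.symm]
    have hsw : ∀ c ∈ S, ∃ s ∈ G, s c = c ∧ s a = b ∧ s b = a ∧ ∃ e, ∀ v, s v = v → v = c ∨ v = e := by
      intro c hc
      simp only [S, Finset.mem_sdiff, Finset.mem_univ, true_and, Finset.mem_insert, Finset.mem_singleton, not_or] at hc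
      obtain ⟨z', Q'⟩ := P.exists_pair h (Ne.symm hc.1 : a ≠ c)
      obtain ⟨s, hs, h1, h2, h3, h4⟩ := Q'.exists_swap_fix h (Ne.symm hc.2 : b ≠ c)
      exact ⟨s, hs, h1, h2, h3, h4⟩
    choose! sw hswG hswc hswa hswb e he using hsw
    obtain ⟨u, hu, hu2, hufp⟩ := h.exists_fpf_invol
    obtain ⟨g, hg, hga, hgb⟩ := h.two a (u a) a b (hufp a).symm hba.symm
    set t := g * u * g⁻¹ with ht
    have hinv : g⁻¹ a = a := Perm.inv_eq_iff_eq.2 hga.symm
    have hta : t a = b := by rw [ht, Perm.mul_apply, Perm.mul_apply, hinv, hgb]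
    have hinv' : g⁻¹ b = u a := Perm.inv_eq_iff_eq.2 hgb.symm
    have htb : t b = a := by
      have huu : u (u a) = a := by
        rw [← Perm.mul_apply, ← sq, ← hu2, pow_orderOf_eq_one]; rfl
      rw [ht, Perm.mul_apply, Perm.mul_apply, hinv', huu, hga]
    have htfp : ∀ v, t v ≠ v := fun v hv => hufp (g⁻¹ v) (by
      simp only [ht, Perm.mul_apply] at hv
      exact (Perm.inv_eq_iff_eq.2 hv.symm).symm)
    have htG : t ∈ G := G.mul_mem (G.mul_mem hg hu) (G.inv_mem hg)
    let D : Finset (Perm Ω) := Finset.univ.filter (fun x => x ∈ st (st G a) b)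
    have hD : D.card = Nat.card (st (st G a) b) := by
      rw [Nat.card_eq_fintype_card, Fintype.card_subtype]
    have himg : S.image (fun c => t⁻¹ * sw c) ⊆ D.erase 1 := by
      intro x hx
      obtain ⟨c, hc, rfl⟩ := Finset.mem_image.1 hx
      refine Finset.mem_erase.2 ⟨fun hx1 => ?_, Finset.mem_filter.2 ⟨Finset.mem_univ _, ?_⟩⟩
      · rw [inv_mul_eq_one] at hx1
        exact htfp c (hx1 ▸ hswc c hc)
      · refine mem_st.2 ⟨mem_st.2 ⟨G.mul_mem (G.inv_mem htG) (hswG c hc), ?_⟩, ?_⟩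
        · rw [Perm.mul_apply, hswa c hc, Perm.inv_eq_iff_eq, hta]
        · rw [Perm.mul_apply, hswb c hc, Perm.inv_eq_iff_eq, htb]
    have hfib : ∀ x ∈ S.image (fun c => t⁻¹ * sw c),
        (S.filter (fun c => t⁻¹ * sw c = x)).card ≤ 2 := by
      intro x hx
      obtain ⟨c, hc, rfl⟩ := Finset.mem_image.1 hx
      refine le_trans (Finset.card_le_card (t := {c, e c}) ?_) Finset.card_le_two
      intro v hv
      obtain ⟨hvS, hve⟩ := Finset.mem_filter.1 hv
      rw [mul_right_inj] at hve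
      have := he c hc v (hve ▸ hswc v hvS)
      simpa using this
    have hcount := Finset.card_le_mul_card_image S 2 hfib
    have h1D : (1 : Perm Ω) ∈ D := Finset.mem_filter.2 ⟨Finset.mem_univ _, Subgroup.one_mem _⟩
    have hDpos : 0 < D.card := Finset.card_pos.2 ⟨1, h1D⟩
    have := Finset.card_le_card himg
    rw [Finset.card_erase_of_mem h1D] at this
    -- the bound from the kernel
    obtain ⟨k, w, -, -, -, hw⟩ := Q.exists_unit h
    have hb2 : 2 * orderOf w ≥ Nat.card Ω := by omega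
    rcases order_bound h.odd_pred (by omega) w (by omega) (hw ▸ Q.coprime_card h) with ⟨hp, hdvd⟩ | hlt
    · refine ⟨hp, ?_⟩
      rw [hw] at hdvd hb2
      obtain ⟨c, hc⟩ := hdvd
      rcases Nat.lt_or_ge c 2 with hc2 | hc2
      · interval_cases c
        · omega
        · omega
      · have : Nat.card (st (st G a) b) * 2 ≤ Nat.card (st (st G a) b) * c := Nat.mul_le_mul_left _ hc2
        omega
    · omega
  refine ⟨hn4, (hmain a b P.ne).1, fun a b hab => (hmain a b hab.symm).2, ?_⟩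
  intro g hg a b c hab hbc hac hga hgb hgc
  obtain ⟨z, Q⟩ := P.exists_pair h hab.symm
  obtain ⟨k, hk, hkc⟩ := Q.der_trans h hac.symm
  have hgd : g ∈ st G a := mem_st.2 ⟨hg, hga⟩
  obtain ⟨i, hi⟩ := h.conj_der hk hgd
  have hc : (k⁻¹ * (g * k * g⁻¹)) = 1 := by
    refine h.der_semireg ?_ hab.symm ?_
    · exact Subgroup.mul_mem _ (Subgroup.inv_mem _ hk) (hi ▸ Subgroup.zpow_mem _ hk i)
    · simp only [Perm.mul_apply]
      rw [Perm.inv_eq_iff_eq.2 hgb.symm, hkc, hgc, Perm.inv_eq_iff_eq, hkc]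
  rw [inv_mul_eq_one] at hc
  have hcomm : Commute g k := (mul_inv_eq_iff_eq_mul.1 hc.symm)
  have hk1 : k ≠ 1 := fun h1 => hbc (by rw [← hkc, h1]; rfl)
  have hkord : orderOf k = Nat.card Ω - 1 := by
    refine ((hmain a b hab.symm).1.eq_one_or_self_of_dvd _ ?_).resolve_left (mt orderOf_eq_one_iff.1 hk1)
    rw [← Q.card_der h]
    exact Subgroup.orderOf_dvd_natCard _ hk
  have hKeq : Subgroup.zpowers k = Hyp.der G a :=
    Subgroup.eq_of_le_of_card_ge (Subgroup.zpowers_le.2 hk) (by rw [Nat.card_zpowers, Q.card_der h, hkord])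
  refine Equiv.ext fun y => ?_
  by_cases hy : y = a
  · rw [hy, hga]; rfl
  obtain ⟨x, hx, rfl⟩ := Q.der_trans h hy
  rw [← hKeq] at hx
  obtain ⟨j, rfl⟩ := hx
  rw [← Perm.mul_apply, (hcomm.zpow_right j).eq, Perm.mul_apply, hgb]
  rfl

end Pair

end CfsgLib.CycZ
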